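import Cfsg.Agent.Lib.IsolatedRankTwo.Parity
import Cfsg.Agent.Lib.RankTwoOdd.Main
import Cfsg.Agent.Lib.EssentialSmall.OrderFour
import Cfsg.Agent.S3049

/-!
# Groups of rank two with a coprime automorphism group without fixed quotient

* `structure_of_action`: such a nonmetacyclic group, with a fixed central element of order `p`, is extraspecial
  of order `p ^ 3` and exponent `p`, or `p = 3` and it has maximal class and order `3 ^ (2k + 1)`.
-/

set_option autoImplicit false
set_option linter.unusedSectionVars false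
set_option linter.style.haveILetI false

open Subgroup
open scoped commutatorElement

universe u

namespace Cfsg.Agent.IsolatedRankTwo

variable {p : ℕ} [hp : Fact p.Prime] {X : Type u} [Group X] [Finite X]

/-- Commutators are central if those of generators are. -/
theorem classTwo_of_gens {S : Set X} (hS : closure S = ⊤) (h : ∀ a ∈ S, ∀ b ∈ S, ⁅a, b⁆ ∈ center X)
    (a b : X) : ⁅a, b⁆ ∈ center X :=
  commutator_le_of_gens (center X) hS h (commutator_mem_commutator (mem_top a) (mem_top b))

theorem classTwo_pow_central (hp2 : p ≠ 2) {S : Set X} (hS : closure S = ⊤)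
    (h : ∀ a b : X, ⁅a, b⁆ ∈ center X) (hSp : ∀ a ∈ S, a ^ p ∈ center X) (g : X) : g ^ p ∈ center X := by
  induction (hS ▸ mem_top g : g ∈ closure S) using closure_induction with
  | mem a ha => exact hSp a ha
  | one => rw [one_pow]; exact one_mem _
  | mul a b _ _ ha hb => rw [PGroup.mul_pow_classTwo hp.out hp2 h hb]; exact mul_mem ha hb
  | inv a _ ha => rw [inv_pow]; exact inv_mem ha

theorem closure_map_eq_top {S : Set X} (hS : closure S = ⊤) {Y : Type u} [Group Y] {f : X →* Y}
    (hf : Function.Surjective f) : closure (f '' S) = ⊤ := by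
  rw [← MonoidHom.map_closure, hS, map_top_of_surjective f hf]

theorem mk_mem_center {N : Subgroup X} [N.Normal] {g : X} (hg : g ∈ center X) :
    QuotientGroup.mk' N g ∈ center (X ⧸ N) := by
  refine mem_center_iff.mpr fun v => ?_
  obtain ⟨a, rfl⟩ := QuotientGroup.mk'_surjective N v
  rw [← map_mul, ← map_mul, mem_center_iff.mp hg a]

section Power

variable (A : Subgroup (MulAut X))

/-- A power map which is a homomorphism into the centre kills all displacements. -/
theorem false_of_power (hgen : ∀ M : Subgroup X, (∀ a ∈ A, ∀ g, a g * g⁻¹ ∈ M) → M = ⊤)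
    (hfix : ∀ a ∈ A, ∀ z ∈ center X, a z = z) (N : Subgroup X) [N.Normal]
    (hcen : ∀ g : X, g ^ p ∈ center X)
    (hmul : ∀ g h : X, QuotientGroup.mk' N ((g * h) ^ p) =
      QuotientGroup.mk' N (g ^ p) * QuotientGroup.mk' N (h ^ p))
    (hne : ∃ g : X, g ^ p ∉ N) : False := by
  let φ : X →* X ⧸ N :=
    { toFun := fun g => QuotientGroup.mk' N (g ^ p)
      map_one' := by rw [one_pow, map_one]
      map_mul' := hmul }
  have htop := hgen φ.ker fun a ha g => by
    rw [MonoidHom.mem_ker, map_mul, map_inv, mul_inv_eq_one]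
    show QuotientGroup.mk' N ((a g) ^ p) = QuotientGroup.mk' N (g ^ p)
    rw [← map_pow, hfix a ha _ (hcen g)]
  obtain ⟨g, hg⟩ := hne
  have h1 : φ g = 1 := MonoidHom.mem_ker.mp (htop ▸ mem_top g)
  exact hg ((QuotientGroup.eq_one_iff _).mp h1)

end Power

theorem not_exponent (hX : IsPGroup p X) (hrk : Cfsg.PRankLE p 2 X) {n : ℕ} (hn : Nat.card X = p ^ n)
    (h4 : 4 ≤ n) : ∃ g : X, g ^ p ≠ 1 := by
  by_contra hall
  push Not at hall
  have hc := PGroup.card_le_cube_of_exponent_rank_two hX hall fun A hA =>
    hrk A ⟨⟨fun a b => Subtype.ext (hA a a.2 b b.2)⟩⟩ fun a _ => hall a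
  rw [hn] at hc
  have := (Nat.pow_le_pow_iff_right hp.out.one_lt).mp hc
  omega

/-- A nonmetacyclic group of order at most `p ^ 3` and rank two is extraspecial of exponent `p`. -/
theorem extraspecial_of_small (hrk : Cfsg.PRankLE p 2 X) {n : ℕ} (hn : Nat.card X = p ^ n) (h3 : n ≤ 3)
    (hnm : ¬ Cfsg.IsMetacyclic X) :
    Cfsg.IsExtraspecial p X ∧ Nat.card X = p ^ 3 ∧ ∀ g : X, g ^ p = 1 := by
  have hX : IsPGroup p X := IsPGroup.of_card hn
  have hcyclic : ∀ (N : Subgroup X) (_ : N.Normal), IsCyclic N → IsCyclic (X ⧸ N) → False :=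
    fun N hN h1 h2 => hnm ⟨N, hN, h1, h2⟩
  have hnc : ¬ IsCyclic X := fun hc => hcyclic ⊤ inferInstance inferInstance
    (haveI : Subsingleton (X ⧸ (⊤ : Subgroup X)) := QuotientGroup.subsingleton_quotient_top; isCyclic_of_subsingleton)
  -- no element generates a maximal subgroup
  have key : ∀ g : X, g ≠ 1 → ¬ p ^ (n - 1) ≤ orderOf g := by
    intro g hg hle
    obtain ⟨j, hj⟩ := IsPGroup.iff_orderOf.mp hX g
    have hjn : j < n := by
      by_contra hcon
      refine hnc (isCyclic_of_orderOf_eq_card g (le_antisymm (Nat.le_of_dvd Nat.card_pos (orderOf_dvd_natCard g)) ?_))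
      rw [hn, hj]
      exact Nat.pow_le_pow_right hp.out.pos (by omega)
    have hjn' : n - 1 = j := by
      have := (Nat.pow_le_pow_iff_right hp.out.one_lt).mp (hj ▸ hle)
      omega
    set N := zpowers g with hN
    have hNi : N.index = p := by
      have h := N.card_mul_index
      rw [hN, Nat.card_zpowers, hj, hn, show n = j + 1 by omega, pow_succ] at h
      exact Nat.eq_of_mul_eq_mul_left (pow_pos hp.out.pos j) h
    have hmin : (Nat.card X).minFac = p := by
      rw [hn, hp.out.pow_minFac (by omega : n ≠ 0)]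
    haveI hNn : N.Normal := normal_of_index_eq_minFac_card (hNi.trans hmin.symm)
    exact hcyclic N hNn inferInstance (isCyclic_of_prime_card (p := p) (by rw [← index_eq_card, hNi]))
  have hn3 : n = 3 := by
    by_contra hne
    haveI : Nontrivial X := by
      by_contra h
      haveI := not_nontrivial_iff_subsingleton.mp h
      exact hnc isCyclic_of_subsingleton
    obtain ⟨g, hg⟩ := exists_ne (1 : X)
    refine key g hg ?_
    obtain ⟨j, hj⟩ := IsPGroup.iff_orderOf.mp hX g
    have hj1 : j ≠ 0 := fun h => hg (orderOf_eq_one_iff.mp (by rw [hj, h, pow_zero]))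
    rw [hj]
    exact Nat.pow_le_pow_right hp.out.pos (by omega)
  subst hn3
  have hexp : ∀ g : X, g ^ p = 1 := by
    intro g
    by_contra hg
    refine key g (fun h => hg (by rw [h, one_pow])) ?_
    obtain ⟨j, hj⟩ := IsPGroup.iff_orderOf.mp hX g
    have : 2 ≤ j := by
      by_contra hlt
      refine hg (orderOf_dvd_iff_pow_eq_one.mp ?_)
      rw [hj]
      exact (Nat.pow_dvd_pow p (by omega : j ≤ 1)).trans (pow_one p).dvd
    rw [hj]
    exact Nat.pow_le_pow_right hp.out.pos this
  refine ⟨EssentialSmall.isExtraspecial_of_card_cube hn (fun hc => ?_) hexp, hn, hexp⟩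
  have := hrk ⊤ ⟨⟨fun a b => Subtype.ext (hc a b)⟩⟩ fun g _ => hexp g
  rw [card_top, hn] at this
  exact absurd ((Nat.pow_le_pow_iff_right hp.out.one_lt).mp this) (by norm_num)

theorem structure_of_action (hp2 : p ≠ 2) (hX : IsPGroup p X) (hrk : Cfsg.PRankLE p 2 X)
    (hnm : ¬ Cfsg.IsMetacyclic X) (A : Subgroup (MulAut X)) (hA : (Nat.card A).Coprime p)
    (hgen : ∀ M : Subgroup X, (∀ a ∈ A, ∀ g, a g * g⁻¹ ∈ M) → M = ⊤)
    (x : X) (hx : orderOf x = p) (hxc : x ∈ center X) (hxfix : ∀ a ∈ A, a x = x) :
    (Cfsg.IsExtraspecial p X ∧ Nat.card X = p ^ 3 ∧ ∀ g : X, g ^ p = 1) ∨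
    (p = 3 ∧ ∃ k : ℕ, 2 ≤ k ∧ Nat.card X = 3 ^ (2 * k + 1) ∧
      ∃ _ : Group.IsNilpotent X, Group.nilpotencyClass X = 2 * k) := by
  obtain ⟨n, hn⟩ := IsPGroup.iff_card.mp hX
  rcases Nat.lt_or_ge n 4 with hn4 | hn4
  · exact Or.inl (extraspecial_of_small hrk hn (by omega) hnm)
  have hxp : x ^ p = 1 := orderOf_dvd_iff_pow_eq_one.mp hx.dvd
  -- the centre is fixed as soon as some element of order `p` is not central
  have hfix : (∃ y : X, y ^ p = 1 ∧ y ∉ center X) → ∀ a ∈ A, ∀ z ∈ center X, a z = z := by
    rintro ⟨y, hy, hyc⟩ a ha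
    have hao : Nat.Coprime (orderOf a) p :=
      hA.coprime_dvd_left ((Subgroup.orderOf_mk a ha).symm.dvd.trans (orderOf_dvd_natCard _))
    refine PGroup.fixed_of_fix_order_p_abelian hX hao (A := center X)
      (fun u hu v _ => (mem_center_iff.mp hu v).symm) (fun u hu => ?_) fun z hz hzp => ?_
    · refine mem_center_iff.mpr fun v => ?_
      obtain ⟨v, rfl⟩ := a.surjective v
      rw [← map_mul, ← map_mul, mem_center_iff.mp hu v]
    · by_cases hmem : z ∈ zpowers x
      · obtain ⟨i, rfl⟩ := hmem
        rw [map_zpow, hxfix a ha]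
      exfalso
      have hzo : orderOf z = p := orderOf_eq_prime hzp fun h => hmem (h ▸ one_mem _)
      obtain ⟨i, j, hij⟩ := Agent.S3049.dependent hrk hy hx hzo (mem_center_iff.mp hxc y)
        (mem_center_iff.mp hz y) ((mem_center_iff.mp hz x)) hmem
      exact hyc (hij ▸ mul_mem (zpow_mem hxc i) (zpow_mem hz j))
  have hexp := not_exponent hX hrk hn hn4
  have hnoncentral : ∀ {S : Set X} (_ : closure S = ⊤) (a b : X), a ∈ S → b ∈ S → ⁅a, b⁆ ≠ 1 → a ∉ center X :=
    fun _ a b _ _ hab hac => hab (commutatorElement_eq_one_iff_mul_comm.mpr (mem_center_iff.mp hac b).symm)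
  rcases RankTwoOdd.rank_two_classification hp2 hn hrk with hm | htwo | hthree | ⟨rfl, -, hlcs⟩
  · exact absurd hm hnm
  · -- type two
    exfalso
    obtain ⟨-, a, b, z, hcl, ha, hb, -, haz, hbz, hrel⟩ := htwo
    have hzc : z ∈ center X := mem_center_of_gens hcl fun s hs => by
      rcases hs with rfl | rfl | rfl
      exacts [haz, hbz, rfl]
    have hbx : a⁻¹ * b * a * b⁻¹ ∈ center X := by
      rw [hrel, mul_assoc, ← ((mem_center_iff.mp (pow_mem hzc _) b⁻¹)), ← mul_assoc, mul_inv_cancel, one_mul]
      exact pow_mem hzc _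
    have hab : ⁅a⁻¹, b⁆ ∈ center X := by rwa [commutatorElement_def, inv_inv]
    have hcl' : closure ({a⁻¹, b, z} : Set X) = ⊤ := by
      refine top_le_iff.mp (hcl.ge.trans ((closure_le _).mpr ?_))
      rintro s (rfl | rfl | rfl)
      · simpa using inv_mem (subset_closure (by simp : s⁻¹ ∈ ({s⁻¹, b, z} : Set X)))
      all_goals exact subset_closure (by simp)
    have h2 : ∀ u v : X, ⁅u, v⁆ ∈ center X := classTwo_of_gens hcl' fun u hu v hv => by
      have hzv : ∀ v : X, ⁅z, v⁆ = 1 ∧ ⁅v, z⁆ = 1 := fun v =>
        ⟨PGroup.commutator_eq_one_of_mem_center hzc v, by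
          rw [← commutatorElement_inv, PGroup.commutator_eq_one_of_mem_center hzc v, inv_one]⟩
      rcases hu with rfl | rfl | rfl <;> rcases hv with rfl | rfl | rfl <;>
        first
        | (rw [commutatorElement_self]; exact one_mem _)
        | exact hab
        | (rw [← commutatorElement_inv]; exact inv_mem hab)
        | (rw [(hzv _).1]; exact one_mem _)
        | (rw [(hzv _).2]; exact one_mem _)
    have hcen : ∀ g : X, g ^ p ∈ center X := classTwo_pow_central hp2 hcl h2 (by
      rintro s (rfl | rfl | rfl)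
      · rw [ha]; exact one_mem _
      · rw [hb]; exact one_mem _
      · exact pow_mem hzc p)
    by_cases hac : a ∈ center X
    · -- then everything commutes
      have hcm : ∀ u v : X, u * v = v * u := by
        have hall : ∀ s ∈ ({a, b, z} : Set X), s ∈ center X := by
          have hbc : b ∈ center X := mem_center_of_gens hcl fun s hs => by
            rcases hs with rfl | rfl | rfl
            exacts [(mem_center_iff.mp hac b).symm, rfl, hbz.symm]
          rintro s (rfl | rfl | rfl)
          exacts [hac, hbc, hzc]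
        have : center X = ⊤ := top_le_iff.mp (hcl.ge.trans ((closure_le _).mpr hall))
        exact fun u v => mem_center_iff.mp (this ▸ mem_top v) u
      obtain ⟨g, hg⟩ := hexp
      refine hnm ?_
      exact (isMetacyclic_of_comm hX hrk hp2 hcm)
    · refine false_of_power (p := p) A hgen (hfix ⟨a, ha, hac⟩) ⊥ hcen (fun g h => ?_) ?_
      · rw [PGroup.mul_pow_classTwo hp.out hp2 h2 (hcen h), map_mul]
      · simpa using hexp
  · -- type three
    obtain ⟨-, s, a, b, z, hs, hcl, ha, hb, -, hbz, hrel, hrel2⟩ := hthree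
    by_cases hmax : p = 3 ∧ (⊤ : Subgroup X).lowerCentralSeries (n - 2) ≠ ⊥
    · obtain ⟨rfl, hlcs⟩ := hmax
      exact Or.inr ⟨rfl, parity A hA hgen hn hn4 hlcs x hx hxc hxfix⟩
    exfalso
    set N : Subgroup X := zpowers (z ^ p ^ (n - 3)) with hN
    set c := z ^ p with hc
    have hcl' : closure ({a⁻¹, z} : Set X) = ⊤ := by
      refine top_le_iff.mp (hcl.ge.trans ((closure_le _).mpr ?_))
      have hz' : z ∈ closure ({a⁻¹, z} : Set X) := subset_closure (by simp)
      have ha' : a⁻¹ ∈ closure ({a⁻¹, z} : Set X) := subset_closure (by simp)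
      rintro t (rfl | rfl | rfl)
      · simpa using inv_mem ha'
      · have : t = a⁻¹ * z * a * z⁻¹ := by rw [hrel2, mul_inv_cancel_right]
        rw [this]
        exact mul_mem (mul_mem (mul_mem ha' hz') (by simpa using inv_mem ha')) (inv_mem hz')
      · exact hz'
    have hca : Commute a c := by
      have : a⁻¹ * c * a = c := by
        rw [hc, show a⁻¹ * z ^ p * a = (a⁻¹ * z * a) ^ p by
          simpa using (conj_pow (i := p) (a := a⁻¹) (b := z)).symm, hrel2, (show Commute b z from hbz).mul_pow,
          hb, one_mul]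
      show a * c = c * a
      conv_lhs => rw [← this]
      group
    have hcc : c ∈ center X := mem_center_of_gens hcl' fun t ht => by
      rcases ht with rfl | rfl
      exacts [(hca.inv_left).eq, ((Commute.refl _).pow_right p).eq]
    have hwc : z ^ p ^ (n - 3) ∈ center X := by
      rw [show n - 3 = n - 4 + 1 by omega, pow_succ', pow_mul]
      exact pow_mem hcc _
    haveI hNn : N.Normal := ⟨fun u hu g => by
      rwa [mem_center_iff.mp ((zpowers_le.mpr hwc : N ≤ center X) hu) g, mul_inv_cancel_right]⟩
    have hwN : z ^ (s * p ^ (n - 3)) ∈ N := by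
      rw [mul_comm, pow_mul]; exact pow_mem (mem_zpowers _) s
    have hy : a⁻¹ * b * a * b⁻¹ = z ^ (s * p ^ (n - 3)) := by
      rw [hrel, mul_assoc, ← mem_center_iff.mp ((zpowers_le.mpr hwc : N ≤ center X) hwN) b⁻¹, ← mul_assoc,
        mul_inv_cancel, one_mul]
    have hgc : ⁅a⁻¹, z⁆ = b := by rw [commutatorElement_def, inv_inv, hrel2, mul_inv_cancel_right]
    -- class two modulo `N` and modulo the centre
    have hquot : ∀ (M : Subgroup X) [M.Normal], N ≤ M → ∀ u v : X ⧸ M, ⁅u, v⁆ ∈ center (X ⧸ M) := by
      intro M _ hNM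
      have hbM : QuotientGroup.mk' M b ∈ center (X ⧸ M) := by
        refine mem_center_of_gens (closure_map_eq_top hcl' (QuotientGroup.mk'_surjective M)) ?_
        rintro _ ⟨t, (rfl | rfl), rfl⟩
        · rw [← map_mul, ← map_mul, QuotientGroup.mk'_apply, QuotientGroup.mk'_apply, QuotientGroup.eq_iff_div_mem,
            div_eq_mul_inv]
          refine hNM ?_
          rw [show a⁻¹ * b * (b * a⁻¹)⁻¹ = a⁻¹ * b * a * b⁻¹ by group, hy]
          exact hwN
        · rw [← map_mul, ← map_mul, hbz]
      refine classTwo_of_gens (closure_map_eq_top hcl' (QuotientGroup.mk'_surjective M)) ?_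
      rintro _ ⟨u, (rfl | rfl), rfl⟩ _ ⟨v, (rfl | rfl), rfl⟩ <;> rw [← map_commutatorElement] <;>
        first
        | (rw [commutatorElement_self, map_one]; exact one_mem _)
        | (rw [hgc]; exact hbM)
        | (rw [← commutatorElement_inv, hgc, map_inv]; exact inv_mem hbM)
    have hcen : ∀ g : X, g ^ p ∈ center X := by
      intro g
      rw [← QuotientGroup.eq_one_iff]
      show QuotientGroup.mk' (center X) (g ^ p) = 1
      have h2 := hquot (center X) (zpowers_le.mpr hwc)
      have hexpQ : ∀ u : X ⧸ center X, u ^ p = 1 := by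
        intro u
        induction ((closure_map_eq_top hcl' (QuotientGroup.mk'_surjective (center X))) ▸ mem_top u :
          u ∈ closure (QuotientGroup.mk' (center X) '' {a⁻¹, z})) using closure_induction with
        | mem t ht =>
          obtain ⟨t, (rfl | rfl), rfl⟩ := ht
          · rw [← map_pow, inv_pow, ha, inv_one, map_one]
          · rw [← map_pow]; exact (QuotientGroup.eq_one_iff _).mpr hcc
        | one => exact one_pow p
        | mul u v _ _ hu hv =>
          rw [PGroup.mul_pow_classTwo hp.out hp2 h2 (hv ▸ one_mem _), hu, hv, one_mul]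
        | inv u _ hu => rw [inv_pow, hu, inv_one]
      rw [map_pow, hexpQ]
    have hac : a ∉ center X := by
      intro hac
      -- then `b = 1` and `X` is generated by `a` and `z`, so it is abelian of exponent at most `p ^ (n - 2)`
      have hb1 : b = 1 := by
        rw [← hgc, commutatorElement_eq_one_iff_mul_comm]
        exact (mem_center_iff.mp (inv_mem hac) z).symm
      refine hnm ?_
      have hcm : ∀ u v : X, u * v = v * u := by
        have hall : ∀ t ∈ ({a⁻¹, z} : Set X), t ∈ center X := by
          rintro t (rfl | rfl)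
          · exact inv_mem hac
          · refine mem_center_of_gens hcl' ?_
            rintro t' (rfl | rfl)
            exacts [(mem_center_iff.mp (inv_mem hac) _).symm, rfl]
        have : center X = ⊤ := top_le_iff.mp (hcl'.ge.trans ((closure_le _).mpr hall))
        exact fun u v => mem_center_iff.mp (this ▸ mem_top v) u
      exact isMetacyclic_of_comm hX hrk hp2 hcm
    have hzfix := hfix ⟨a, ha, hac⟩
    by_cases hn5 : 5 ≤ n
    · refine false_of_power (p := p) A hgen hzfix N hcen (fun g h => ?_) ?_
      · have := PGroup.mul_pow_classTwo hp.out hp2 (hquot N le_rfl) (x := QuotientGroup.mk' N g)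
          (y := QuotientGroup.mk' N h) (by rw [← map_pow]; exact mk_mem_center (hcen h))
        rw [map_pow, map_pow, map_pow, map_mul]
        exact this
      · by_contra hall
        push Not at hall
        have hc1 : c = 1 := by
          obtain ⟨i, hi⟩ := mem_zpowers_iff.mp (hall z)
          obtain ⟨l, hl⟩ := IsPGroup.iff_orderOf.mp hX c
          have he : c ^ (((p ^ (n - 4) : ℕ) : ℤ) * i - 1) = 1 := by
            rw [zpow_sub_one, zpow_mul, zpow_natCast, hc, ← pow_mul, ← pow_succ', show n - 4 + 1 = n - 3 by omega,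
              hi, mul_inv_cancel]
          by_contra hne
          have hdvd : (orderOf c : ℤ) ∣ ((p ^ (n - 4) : ℕ) : ℤ) * i - 1 := orderOf_dvd_iff_zpow_eq_one.mpr he
          have hpd : (p : ℤ) ∣ orderOf c := by
            rw [hl]
            have : l ≠ 0 := fun h => hne (orderOf_eq_one_iff.mp (by rw [hl, h, pow_zero]))
            exact_mod_cast dvd_pow_self p this
          have hp1 : (p : ℤ) ∣ ((p ^ (n - 4) : ℕ) : ℤ) * i :=
            Dvd.dvd.mul_right (by exact_mod_cast dvd_pow_self p (by omega : n - 4 ≠ 0)) i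
          have : (p : ℤ) ∣ 1 := by
            have := dvd_sub hp1 (hpd.trans hdvd)
            simpa using this
          exact hp.out.ne_one (by exact_mod_cast Int.eq_one_of_dvd_one (by positivity) this)
        have hNb : N = ⊥ := by
          rw [hN, zpowers_eq_bot, show n - 3 = n - 4 + 1 by omega, pow_succ', pow_mul, ← hc, hc1, one_pow]
        obtain ⟨g, hg⟩ := hexp
        exact hg (mem_bot.mp (hNb ▸ hall g))
    · have hn' : n = 4 := by omega
      subst hn'
      refine false_of_power (p := p) A hgen hzfix ⊥ hcen (fun g h => ?_) (by simpa using hexp)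
      rcases Classical.em (p = 3) with rfl | h3
      · have hlcs : (⊤ : Subgroup X).lowerCentralSeries 2 = ⊥ := by
          by_contra hne
          exact hmax ⟨rfl, hne⟩
        have h2 : ∀ u v : X, ⁅u, v⁆ ∈ center X := fun u v => by
          have hle : ⁅_root_.commutator X, (⊤ : Subgroup X)⁆ = ⊥ := by
            rw [← top_lowerCentralSeries_one, ← Subgroup.lowerCentralSeries_succ]
            exact hlcs
          exact commutator_top_right_eq_bot_iff_le_center.mp hle
            (commutator_mem_commutator (mem_top u) (mem_top v))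
        rw [PGroup.mul_pow_classTwo hp.out hp2 h2 (hcen h), map_mul]
      · have hp3 : 3 < p := by
          have := hp.out.two_le
          omega
        rw [PGroup.mul_pow_classThree hp.out hp3 (PGroup.classThree_of_card_le hX hn.le) (hcen g) (hcen h),
          map_mul]
  · exact Or.inr ⟨rfl, parity A hA hgen hn hn4 hlcs x hx hxc hxfix⟩

end Cfsg.Agent.IsolatedRankTwo
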