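import Cfsg.Agent.Lib.IsolatedRankTwo.Local

/-!
# The focal subgroup in rank two with an isolated element

* `displacement_mem`: `g q g⁻¹ q⁻¹ ∈ ⁅P, N(P)⁆` whenever `q, g q g⁻¹ ∈ P`.
* `commutator_inf_le`: `K' ∩ P ≤ ⁅P, N(P)⁆`.
-/

set_option autoImplicit false
set_option linter.unusedSectionVars false
set_option linter.style.haveILetI false

open Subgroup
open scoped commutatorElement

universe u

namespace Cfsg.Agent.IsolatedRankTwo

variable {K : Type u} [Group K] [Finite K] {p : ℕ} [hp : Fact p.Prime] {P : Sylow p K} {x : K}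

/-- `⁅P, N(P)⁆`. -/
abbrev focalBound (P : Sylow p K) : Subgroup K :=
  ⁅(P : Subgroup K), normalizer ((P : Subgroup K) : Set K)⁆

theorem focalBound_le : focalBound P ≤ (P : Subgroup K) :=
  le_normalizer_iff_commutator_le_left.mp le_rfl

theorem derived_le_focalBound : ⁅(P : Subgroup K), (P : Subgroup K)⁆ ≤ focalBound P :=
  commutator_mono le_rfl P.le_normalizer

theorem displacement_mem_of_mem_normalizer {q g : K} (hq : q ∈ (P : Subgroup K))
    (hg : g ∈ normalizer ((P : Subgroup K) : Set K)) : g * q * g⁻¹ * q⁻¹ ∈ focalBound P := by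
  have h := inv_mem (commutator_mem_commutator hq hg : ⁅q, g⁆ ∈ focalBound P)
  rwa [commutatorElement_inv, commutatorElement_def] at h

theorem step (h : Hyp p P x) {R : Subgroup K} (hR : Transfer.IsFullyNormalized p (P : Subgroup K) R)
    (hagree : ∀ y ∈ normalizer (R : Set K), (∀ a ∈ localH P R, y * a * y⁻¹ ∈ localH P R) →
      ∀ r ∈ R, y * r * y⁻¹ * r⁻¹ ∈ focalBound P) :
    ∀ n ∈ normalizer (R : Set K), ∀ r ∈ R, n * r * n⁻¹ * r⁻¹ ∈ focalBound P := by
  set N := normalizer (R : Set K)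
  set T := (P : Subgroup K) ⊓ N
  rcases local_alternative h hR with hH | ⟨W, hWR, hWe, hWd, hxW, y, hy, hyH, hyW⟩
  · exact fun n hn => hagree n hn fun a ha => hH n hn a ha
  have hWP : W ≤ (P : Subgroup K) := hWR.trans hR.1
  have hxM : x ∈ focalBound P :=
    derived_le_focalBound (commutator_mono hWP hWP hxW)
  have hWM : W ≤ focalBound P := by
    intro w hw
    have h1 := hagree y hy hyH w (hWR hw)
    have h2 : y * w * y⁻¹ * w ∈ focalBound P := zpowers_le.mpr hxM (hyW w hw)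
    have h3 : w ^ 2 ∈ focalBound P := by
      have := mul_mem (inv_mem h1) h2
      rwa [show (y * w * y⁻¹ * w⁻¹)⁻¹ * (y * w * y⁻¹ * w) = w ^ 2 by rw [pow_two]; group] at this
    obtain ⟨m, hm⟩ := hp.out.odd_of_ne_two h.ne2
    have : w = (w ^ 2) ^ (m + 1) := by
      rw [← pow_mul, show 2 * (m + 1) = p + 1 by omega, pow_succ, hWe w hw, one_mul]
    rw [this]
    exact pow_mem h3 _
  -- the good elements form a subgroup containing the generators
  intro n hn
  have hidx : ¬ p ∣ (T.subgroupOf N).index := hR.2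
  let good : Subgroup N :=
    { carrier := {g | ∀ r ∈ R, (g : K) * r * (g : K)⁻¹ * r⁻¹ ∈ focalBound P}
      one_mem' := fun r _ => by simp
      mul_mem' := fun {a b} ha hb r hr => by
        have hbr : (b : K) * r * (b : K)⁻¹ ∈ R := (mem_normalizer_iff.mp b.2 r).mp hr
        have := mul_mem (ha _ hbr) (hb r hr)
        rw [coe_mul]
        rwa [show (a : K) * b * r * ((a : K) * b)⁻¹ * r⁻¹ = (a : K) * ((b : K) * r * (b : K)⁻¹) * (a : K)⁻¹ *
          ((b : K) * r * (b : K)⁻¹)⁻¹ * ((b : K) * r * (b : K)⁻¹ * r⁻¹) by group]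
      inv_mem' := fun {a} ha r hr => by
        have har : (a : K)⁻¹ * r * (a : K) ∈ R := by
          simpa using (mem_normalizer_iff.mp (inv_mem a.2) r).mp hr
        have := inv_mem (ha _ har)
        rw [coe_inv]
        rwa [show (a : K)⁻¹ * r * (a : K)⁻¹⁻¹ * r⁻¹ =
          ((a : K) * ((a : K)⁻¹ * r * (a : K)) * (a : K)⁻¹ * ((a : K)⁻¹ * r * (a : K))⁻¹)⁻¹ by group] }
  have htop : T.subgroupOf N ⊔ Cfsg.pResidual p N ≤ good := by
    refine sup_le (fun t ht r hr => ?_) ((closure_le _).mpr fun t ht r hr => ?_)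
    · exact displacement_mem_of_mem_normalizer (hR.1 hr) (P.le_normalizer (mem_subgroupOf.mp ht).1)
    · exact hWM (hWd t t.2 (by rw [orderOf_coe]; exact ht) r hr)
  exact htop ((Transfer.sup_pResidual_eq_top hidx).symm ▸ mem_top (⟨n, hn⟩ : N))

theorem displacement_mem (h : Hyp p P x) :
    ∀ d : ℕ, ∀ Q : Subgroup K, Q ≤ (P : Subgroup K) → Nat.card (P : Subgroup K) - Nat.card Q ≤ d →
      ∀ g : K, Q.map (MulAut.conj g).toMonoidHom ≤ (P : Subgroup K) →
        ∀ q ∈ Q, g * q * g⁻¹ * q⁻¹ ∈ focalBound P := by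
  intro d
  induction d using Nat.strong_induction_on with
  | _ d ih =>
  intro Q hQ hd g hg
  suffices H : Nat.card Q ≤ Nat.card Q → ∀ q ∈ Q, g * q * g⁻¹ * q⁻¹ ∈ focalBound P from H le_rfl
  refine Transfer.fusion_induction P
    (fun Q' g => Nat.card Q ≤ Nat.card Q' → ∀ q ∈ Q', g * q * g⁻¹ * q⁻¹ ∈ focalBound P) ?_ ?_ hQ hg
  · intro Q' R hQR hR n hn hc q hq
    by_cases hRP : R = (P : Subgroup K)
    · exact displacement_mem_of_mem_normalizer (hR.1 (hQR hq)) (hRP ▸ hn)
    set T := (P : Subgroup K) ⊓ normalizer (R : Set K) with hT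
    have hRT : R < T := by
      refine lt_of_le_of_ne (le_inf hR.1 le_normalizer) fun he => hRP ?_
      exact Isolated.eq_of_normalizer_le P.isPGroup' hR.1 fun u hu hun => he.ge ⟨hu, hun⟩
    have hlt : Nat.card (P : Subgroup K) - Nat.card T < d := by
      have h1 : Nat.card Q' ≤ Nat.card R := card_le_of_le hQR
      have h2 : Nat.card R < Nat.card T :=
        lt_of_le_of_ne (card_le_of_le hRT.le) fun e => hRT.ne (eq_of_le_of_card_ge hRT.le e.ge)
      have h3 : Nat.card T ≤ Nat.card (P : Subgroup K) := card_le_of_le inf_le_left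
      omega
    refine step h hR (fun y hy hyH r hr => ?_) n hn q (hQR hq)
    obtain ⟨y', hy', he⟩ := exists_agree hR hy hyH
    rw [← he r hr]
    exact ih _ hlt T inf_le_left le_rfl y'
      ((Transfer.map_conj_eq_iff_mem_normalizer.mpr hy').le.trans inf_le_left) r (hRT.le hr)
  · intro Q' a b ha hb hc q hq
    have h1 := ha hc q hq
    have h2 := hb (by rwa [Transfer.card_map_conj]) (a * q * a⁻¹) ⟨q, hq, rfl⟩
    have := mul_mem h2 h1
    rwa [show b * (a * q * a⁻¹) * b⁻¹ * (a * q * a⁻¹)⁻¹ * (a * q * a⁻¹ * q⁻¹) =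
      b * a * q * (b * a)⁻¹ * q⁻¹ by group] at this

theorem commutator_inf_le (h : Hyp p P x) : _root_.commutator K ⊓ (P : Subgroup K) ≤ focalBound P := by
  rw [← Transfer.focalSubgroup_eq_of_coprime _ (Transfer.coprime_index_relIndex_sylow P),
    focalSubgroup_def, closure_le]
  rintro _ ⟨hgP, a, ha, u, rfl⟩
  have hu : u * a⁻¹ * u⁻¹ ∈ (P : Subgroup K) := by
    have := mul_mem (inv_mem ha) hgP
    simpa [commutatorElement_def, mul_assoc] using this
  have h1 := displacement_mem h _ (zpowers a⁻¹) (zpowers_le.mpr (inv_mem ha)) le_rfl u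
    (by rw [MonoidHom.map_zpowers]; exact zpowers_le.mpr hu) a⁻¹ (mem_zpowers _)
  rw [inv_inv] at h1
  have h2 : ⁅a, u * a⁻¹ * u⁻¹ * a⁆ ∈ focalBound P :=
    derived_le_focalBound (commutator_mem_commutator ha (mul_mem hu ha))
  have := mul_mem h2 h1
  rwa [show ⁅a, u * a⁻¹ * u⁻¹ * a⁆ * (u * a⁻¹ * u⁻¹ * a) = ⁅a, u⁆ by
    simp only [commutatorElement_def]; group] at this

end Cfsg.Agent.IsolatedRankTwo
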