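import Cfsg.Agent.Lib.IsolatedRankTwo.Plane
import Cfsg.Agent.Lib.Isolated.Basic
import Cfsg.Agent.Lib.Isolated.RankOne
import Cfsg.Agent.Lib.PGroup.RankTwoAut
import Cfsg.Agent.Lib.Transfer.Centric
import Cfsg.Agent.S3049

/-!
# Normalizers of subgroups in rank two with an isolated element

* `Hyp`: `p` odd, rank at most two, `x` isolated of order `p` in the Sylow subgroup `P`.
* `exists_agree`: an element of `N(R)` normalizing `N_P(R) C(R)` acts on `R` like one normalizing `N_P(R)`.
* `local_alternative`: either `N_P(R) C(R)` is normal in `N(R)` or `R` has the structure of the SL2(p) case.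
-/

set_option autoImplicit false
set_option linter.unusedSectionVars false
set_option linter.style.haveILetI false

open Subgroup
open scoped commutatorElement

universe u

namespace Cfsg.Agent.IsolatedRankTwo

variable {K : Type u} [Group K] [Finite K] {p : ℕ} [hp : Fact p.Prime]

/-- The standing hypotheses. -/
structure Hyp (p : ℕ) [Fact p.Prime] (P : Sylow p K) (x : K) : Prop where
  ne2 : p ≠ 2
  rk : Cfsg.PRankLE p 2 K
  mem : x ∈ (P : Subgroup K)
  ord : orderOf x = p
  iso : Cfsg.IsIsolated x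

variable {P : Sylow p K} {x : K}

theorem Hyp.pow (h : Hyp p P x) : x ^ p = 1 := orderOf_dvd_iff_pow_eq_one.mp h.ord.dvd

theorem Hyp.ne_one (h : Hyp p P x) : x ≠ 1 := fun e =>
  hp.out.ne_one (by rw [← h.ord, e, orderOf_one])

theorem Hyp.comm (h : Hyp p P x) {u : K} (hu : u ∈ (P : Subgroup K)) : Commute x u :=
  (mem_centralizer_singleton_iff.mp (Isolated.commute_of_mem_pGroup h.iso P.isPGroup' h.mem hu)).symm

/-- `N_P(R) C(R)`. -/
abbrev localH (P : Sylow p K) (R : Subgroup K) : Subgroup K :=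
  ((P : Subgroup K) ⊓ normalizer (R : Set K)) ⊔ centralizer (R : Set K)

theorem localH_le (R : Subgroup K) : localH P R ≤ normalizer (R : Set K) :=
  sup_le inf_le_right (centralizer_le_normalizer _)

theorem exists_agree {R : Subgroup K} (hR : Transfer.IsFullyNormalized p (P : Subgroup K) R)
    {y : K} (hy : y ∈ normalizer (R : Set K)) (hyH : ∀ a ∈ localH P R, y * a * y⁻¹ ∈ localH P R) :
    ∃ y' ∈ normalizer (((P : Subgroup K) ⊓ normalizer (R : Set K) : Subgroup K) : Set K),
      ∀ r ∈ R, y' * r * y'⁻¹ = y * r * y⁻¹ := by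
  set N := normalizer (R : Set K)
  set T := (P : Subgroup K) ⊓ N
  set H := localH P R
  have hTH : T ≤ H := le_sup_left
  have hrel : ¬ p ∣ T.relIndex H := fun hd => hR.2 (hd.trans (by
    rw [← relIndex_mul_relIndex T H N hTH (localH_le R)]
    exact dvd_mul_right _ _))
  have hTp : IsPGroup p T := P.isPGroup'.to_le inf_le_left
  obtain ⟨w, hw, hwT⟩ := Transfer.exists_conj_le_of_not_dvd_relIndex hTH hTp hrel
    (Q := T.map (MulAut.conj y).toMonoidHom)
    (by rintro _ ⟨a, ha, rfl⟩; exact hyH a (hTH ha)) (hTp.map _)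
  rw [Transfer.map_conj_map_conj] at hwT
  have hwy : w * y ∈ normalizer (T : Set K) := Transfer.map_conj_eq_iff_mem_normalizer.mp
    (eq_of_le_of_card_ge hwT (Transfer.card_map_conj T (w * y)).ge)
  have hmem : w⁻¹ ∈ ((centralizer (R : Set K) ⊔ T : Subgroup K) : Set K) := by
    rw [sup_comm]; exact inv_mem hw
  rw [coe_mul_of_right_le_normalizer_left] at hmem
  · obtain ⟨c, hc, t, ht, hct⟩ := hmem
    refine ⟨t * (w * y), mul_mem (le_normalizer ht) hwy, fun r hr => ?_⟩
    have ht' : t = c⁻¹ * w⁻¹ := by rw [← hct]; group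
    have hyr : y * r * y⁻¹ ∈ R := (mem_normalizer_iff.mp hy r).mp hr
    have hcc : (y * r * y⁻¹) * c⁻¹ = c⁻¹ * (y * r * y⁻¹) :=
      mem_centralizer_iff.mp (inv_mem (show c ∈ centralizer (R : Set K) from hc)) _ hyr
    calc t * (w * y) * r * (t * (w * y))⁻¹ = c⁻¹ * (y * r * y⁻¹) * c := by rw [ht']; group
      _ = (y * r * y⁻¹) * c⁻¹ * c := by rw [hcc]
      _ = _ := by group
  · intro t ht
    rw [mem_normalizer_iff]
    have hn : ((centralizer (R : Set K)).subgroupOf N).Normal := by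
      rw [← normalizerMonoidHom_ker]; infer_instance
    intro a
    constructor
    · intro ha
      exact hn.conj_mem ⟨a, centralizer_le_normalizer _ ha⟩ ha ⟨t, ht.2⟩
    · intro ha
      have := hn.conj_mem ⟨t * a * t⁻¹, centralizer_le_normalizer _ ha⟩ ha ⟨t⁻¹, inv_mem ht.2⟩
      simpa [mem_subgroupOf, mul_assoc] using this

/-- A `p`-subgroup of `P` avoiding `x` is cyclic. -/
theorem Hyp.isCyclic_of_notMem (h : Hyp p P x) {R : Subgroup K} (hR : R ≤ (P : Subgroup K))
    (hxR : x ∉ R) : IsCyclic R := by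
  have hRp : IsPGroup p R := P.isPGroup'.to_le hR
  by_cases hbot : R = ⊥
  · subst hbot; exact isCyclic_of_subsingleton
  haveI : Nontrivial R := (nontrivial_iff_ne_bot R).mpr hbot
  obtain ⟨z, hz⟩ := exists_prime_orderOf_dvd_card' p (G := center R) (by
    obtain ⟨k, hk, hc⟩ := (hRp.to_subgroup (center R)).nontrivial_iff_card.mp hRp.center_nontrivial
    exact hc ▸ dvd_pow_self p hk.ne')
  have hzo : orderOf ((z : R) : K) = p := by rw [orderOf_coe, orderOf_coe, hz]
  have key : ∀ a : R, a ^ p = 1 → (a : K) ∈ zpowers ((z : R) : K) := by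
    intro a ha
    by_contra hne
    have hao : orderOf (a : K) = p := by
      rw [orderOf_coe]
      exact orderOf_eq_prime ha fun e => hne (by simp [e])
    obtain ⟨i, j, hij⟩ := Agent.S3049.dependent h.rk h.pow hzo hao (h.comm (hR z.1.2)) (h.comm (hR a.2))
      (show Commute ((z : R) : K) (a : K) from (congrArg Subtype.val (mem_center_iff.mp z.2 a) :).symm) hne
    exact hxR (hij ▸ mul_mem (zpow_mem z.1.2 i) (zpow_mem a.2 j))
  refine Isolated.isCyclic_of_unique h.ne2 _ R hRp le_rfl fun a b ha hap hbp => ?_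
  have h1 := key a hap
  have h2 := key b hbp
  obtain ⟨n, hn⟩ := Resist.exists_pow_eq (p := p) (c := ((z : R) : K)) (d := (a : K))
    (hzo ▸ pow_orderOf_eq_one _) h1 (fun e => ha (Subtype.ext e))
  obtain ⟨i, hi⟩ := h2
  refine ⟨(n : ℤ) * i, Subtype.ext ?_⟩
  show (((a ^ ((n : ℤ) * i) : R)) : K) = b
  rw [coe_zpow, zpow_mul, zpow_natCast, hn]
  exact hi

/-- The action on `W / <x>`. -/
def planeAct (N W : Subgroup K) (x : K) [((zpowers x).subgroupOf W).Normal]
    (hNW : N ≤ normalizer (W : Set K)) (hNx : ∀ n ∈ N, n * x * n⁻¹ = x) :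
    N →* MulAut (W ⧸ (zpowers x).subgroupOf W) where
  toFun n := QuotientGroup.congr _ _ (W.normalizerMonoidHom (Subgroup.inclusion hNW n)) (by
    ext w
    have hw : ∀ v : W, ((W.normalizerMonoidHom (Subgroup.inclusion hNW n) v : W) : K) = n * v * (n : K)⁻¹ :=
      fun v => rfl
    have hpow : ∀ i : ℤ, (n : K) * x ^ i * (n : K)⁻¹ = x ^ i := fun i => by
      rw [← conj_zpow, hNx n n.2]
    constructor
    · rintro ⟨v, hv, rfl⟩
      obtain ⟨i, hi⟩ := mem_zpowers_iff.mp (mem_subgroupOf.mp hv)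
      refine mem_subgroupOf.mpr ?_
      show ((W.normalizerMonoidHom (Subgroup.inclusion hNW n) v : W) : K) ∈ zpowers x
      rw [hw, ← hi, hpow]
      exact zpow_mem (mem_zpowers x) i
    · intro hv
      obtain ⟨i, hi⟩ := mem_zpowers_iff.mp (mem_subgroupOf.mp hv)
      refine ⟨w, hv, Subtype.ext ?_⟩
      show ((W.normalizerMonoidHom (Subgroup.inclusion hNW n) w : W) : K) = w
      rw [hw, ← hi, hpow])
  map_one' := by
    ext v
    induction v using QuotientGroup.induction_on with
    | _ w => simp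
  map_mul' a b := by
    ext v
    induction v using QuotientGroup.induction_on with
    | _ w => simp

theorem planeAct_mk (N W : Subgroup K) (x : K) [((zpowers x).subgroupOf W).Normal]
    (hNW : N ≤ normalizer (W : Set K)) (hNx : ∀ n ∈ N, n * x * n⁻¹ = x) (n : N) (w : W) :
    planeAct N W x hNW hNx n (w : W ⧸ (zpowers x).subgroupOf W) =
      (⟨(n : K) * w * (n : K)⁻¹, (mem_normalizer_iff.mp (hNW n.2) w).mp w.2⟩ : W) := rfl

theorem mk_eq_mk_iff {W : Subgroup K} {x : K} [((zpowers x).subgroupOf W).Normal] (a b : W) :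
    (a : W ⧸ (zpowers x).subgroupOf W) = b ↔ (a : K) * (b : K)⁻¹ ∈ zpowers x := by
  rw [QuotientGroup.eq_iff_div_mem, mem_subgroupOf]
  simp [div_eq_mul_inv]

/-- A characteristic subgroup of exponent `p` detecting automorphisms of order prime to `p`. -/
theorem exists_detecting {R : Type u} [Group R] [Finite R] (hR : IsPGroup p R) (hp2 : p ≠ 2) :
    ∃ W : Subgroup R, W.Characteristic ∧ (∀ w ∈ W, w ^ p = 1) ∧
      (∀ z ∈ center R, z ^ p = 1 → z ∈ W) ∧
      ∀ a : MulAut R, Nat.Coprime (orderOf a) p → (∀ w ∈ W, a w = w) → a = 1 := by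
  obtain ⟨H, hH⟩ := PGroup.exists_critical hR
  haveI := hH.char
  refine ⟨closure {r | r ∈ H ∧ r ^ p = 1}, PGroup.characteristic_of_forall_mem fun φ r hr => ?_,
    fun w hw => ?_, fun z hz hzp => subset_closure ⟨?_, hzp⟩,
    fun a ha hfix => PGroup.aut_eq_one_of_fix_omega_critical hp2 hR ha hH fun r hr hrp =>
      hfix r (subset_closure ⟨hr, hrp⟩)⟩
  · induction hr using closure_induction with
    | mem r hr => exact subset_closure ⟨(PGroup.aut_mem_iff φ r).mpr hr.1, by rw [← map_pow, hr.2, map_one]⟩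
    | one => rw [map_one]; exact one_mem _
    | mul a b _ _ ha hb => rw [map_mul]; exact mul_mem ha hb
    | inv a _ ha => rw [map_inv]; exact inv_mem ha
  · suffices w ∈ H ∧ w ^ p = 1 from this.2
    induction hw using closure_induction with
    | mem r hr => exact hr
    | one => exact ⟨one_mem _, one_pow p⟩
    | mul a b _ _ ha hb =>
      have hc := (hH.comm_mem b hb.1 a).2
      have hca : Commute a ⁅b, a⁆ := mem_centralizer_iff.mp hc a ha.1
      have hcb : Commute b ⁅b, a⁆ := mem_centralizer_iff.mp hc b hb.1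
      refine ⟨mul_mem ha.1 hb.1, ?_⟩
      rw [PGroup.mul_pow_prime_eq hp.out hp2 hca hcb
        (by rw [← PGroup.commutator_pow_left hcb, hb.2, commutatorElement_one_left]), ha.2, hb.2, one_mul]
    | inv a _ ha => exact ⟨inv_mem ha.1, by rw [inv_pow, ha.2, inv_one]⟩
  · exact hH.self_centralizing (mem_centralizer_iff.mpr fun a _ => mem_center_iff.mp hz a)

theorem local_alternative (h : Hyp p P x) {R : Subgroup K}
    (hR : Transfer.IsFullyNormalized p (P : Subgroup K) R) :
    (∀ n ∈ normalizer (R : Set K), ∀ a ∈ localH P R, n * a * n⁻¹ ∈ localH P R) ∨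
    ∃ W : Subgroup K, W ≤ R ∧ (∀ w ∈ W, w ^ p = 1) ∧
      (∀ n ∈ normalizer (R : Set K), Nat.Coprime (orderOf n) p → ∀ r ∈ R, n * r * n⁻¹ * r⁻¹ ∈ W) ∧
      x ∈ ⁅W, W⁆ ∧
      ∃ y ∈ normalizer (R : Set K), (∀ a ∈ localH P R, y * a * y⁻¹ ∈ localH P R) ∧
        ∀ w ∈ W, y * w * y⁻¹ * w ∈ zpowers x := by
  set N := normalizer (R : Set K) with hN
  set T := (P : Subgroup K) ⊓ N with hT
  set Cz := centralizer (R : Set K) with hCz
  set H := localH P R with hH
  have hRp : IsPGroup p R := P.isPGroup'.to_le hR.1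
  by_cases hxR : x ∉ R
  · -- cyclic case
    left
    haveI := h.isCyclic_of_notMem hR.1 hxR
    intro n hn a ha
    have haN : a ∈ N := localH_le R ha
    have key : ∀ g ∈ N, ∀ r ∈ R, ∃ i : ℤ, g * r * g⁻¹ = r ^ i ∧ ∀ s ∈ R, g * s * g⁻¹ = s ^ i := by
      intro g hg r hr
      obtain ⟨i, hi⟩ := MonoidHom.map_cyclic (R.normalizerMonoidHom ⟨g, hg⟩).toMonoidHom
      refine ⟨i, ?_, fun s hs => ?_⟩
      · simpa using congrArg Subtype.val (hi ⟨r, hr⟩)
      · simpa using congrArg Subtype.val (hi ⟨s, hs⟩)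
    have hc : ⁅n, a⁆ ∈ Cz := by
      refine mem_centralizer_iff.mpr fun r hr => ?_
      obtain ⟨i, -, hi⟩ := key n hn r hr
      obtain ⟨j, -, hj⟩ := key a haN r hr
      have hr' : ∀ g ∈ N, g⁻¹ * r * g ∈ R := fun g hg => by
        simpa using (mem_normalizer_iff.mp (inv_mem hg) r).mp hr
      set r1 := a⁻¹ * (n⁻¹ * r * n) * a with hr1
      have hr1R : r1 ∈ R := by
        simpa [hr1] using (mem_normalizer_iff.mp (inv_mem haN) (n⁻¹ * r * n)).mp (hr' n hn)
      have e1 : n * (a * r1 * a⁻¹) * n⁻¹ = r := by rw [hr1]; group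
      have e2 : a * (n * r1 * n⁻¹) * a⁻¹ = r := by
        rw [hi r1 hr1R, hj _ (zpow_mem hr1R i), ← zpow_mul, mul_comm, zpow_mul,
          ← hi _ (zpow_mem hr1R j), ← hj r1 hr1R]
        exact e1
      have e3 : ⁅n, a⁆ * r * ⁅n, a⁆⁻¹ = r := by
        conv_lhs => rw [← e2]
        rw [commutatorElement_def]
        have : n * a * n⁻¹ * a⁻¹ * (a * (n * r1 * n⁻¹) * a⁻¹) * (n * a * n⁻¹ * a⁻¹)⁻¹ =
            n * (a * r1 * a⁻¹) * n⁻¹ := by group
        rw [this, e1]
      exact (mul_inv_eq_iff_eq_mul.mp e3).symm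
    have : n * a * n⁻¹ = ⁅n, a⁆ * a := by rw [commutatorElement_def]; group
    rw [this]
    exact mul_mem (mem_sup_right hc) ha
  push Not at hxR
  have hNx : ∀ n ∈ N, n * x * n⁻¹ = x := fun n hn => mul_inv_eq_iff_eq_mul.mpr
    (mem_centralizer_singleton_iff.mp (Isolated.normalizer_le_centralizer h.iso hRp hxR hn))
  obtain ⟨W₀, hWc, hWe, hWz, hWd⟩ := exists_detecting hRp h.ne2
  haveI := hWc
  set W := W₀.map R.subtype with hW
  have hWR : W ≤ R := map_subtype_le _
  have hWe' : ∀ w ∈ W, w ^ p = 1 := by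
    rintro _ ⟨w, hw, rfl⟩
    rw [← map_pow, hWe w hw, map_one]
  have hxW : x ∈ W := ⟨⟨x, hxR⟩, hWz _ (mem_center_iff.mpr fun g => Subtype.ext (h.comm (hR.1 g.2)).eq.symm)
    (Subtype.ext (by simpa using h.pow)), rfl⟩
  have hNW : N ≤ normalizer (W : Set K) := Cores.normalizer_le_normalizer_map _
  haveI hZn : ((zpowers x).subgroupOf W).Normal := ⟨fun a ha g => by
    obtain ⟨i, hi⟩ := mem_zpowers_iff.mp (mem_subgroupOf.mp ha)
    refine mem_subgroupOf.mpr ?_
    show (g : K) * (a : K) * (g : K)⁻¹ ∈ zpowers x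
    rw [← hi, ((h.comm (hR.1 (hWR g.2))).zpow_left i).eq.symm, mul_inv_cancel_right]
    exact zpow_mem (mem_zpowers x) i⟩
  set ρ := planeAct N W x hNW hNx with hρ
  -- orders
  have hWp : IsPGroup p W := hRp.to_le hWR
  have hWcard : Nat.card W ≤ p ^ 3 := by
    refine PGroup.card_le_cube_of_exponent_rank_two hWp (fun g => Subtype.ext (by simpa using hWe' g g.2))
      fun A hA => ?_
    rw [← card_map_of_injective (f := W.subtype) W.subtype_injective]
    refine h.rk _ ⟨⟨?_⟩⟩ ?_
    · rintro ⟨_, a, ha, rfl⟩ ⟨_, b, hb, rfl⟩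
      exact Subtype.ext (congrArg (fun u : W => (u : K)) (hA a ha b hb))
    · rintro _ ⟨b, -, rfl⟩; exact hWe' _ b.2
  have hxcard : Nat.card ((zpowers x).subgroupOf W) = p := by
    rw [Nat.card_congr (subgroupOfEquivOfLe (zpowers_le.mpr hxW)).toEquiv, Nat.card_zpowers, h.ord]
  obtain ⟨j, hj⟩ := PGroup.exists_card_eq_pow (hWp.to_quotient ((zpowers x).subgroupOf W))
  have hWj : Nat.card W = p ^ (j + 1) := by
    rw [((zpowers x).subgroupOf W).card_eq_card_quotient_mul_card_subgroup, hj, hxcard, pow_succ]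
  have hj2 : j ≤ 2 := by
    have := (Nat.pow_le_pow_iff_right hp.out.one_lt).mp (hWj ▸ hWcard)
    omega
  have hVexp : ∀ v : W ⧸ (zpowers x).subgroupOf W, v ^ p = 1 := by
    intro v
    induction v using QuotientGroup.induction_on with
    | _ w => rw [← QuotientGroup.mk_pow, show w ^ p = 1 from Subtype.ext (by simpa using hWe' w w.2)]; rfl
  have hVcm : ∀ a b : W ⧸ (zpowers x).subgroupOf W, a * b = b * a := by
    interval_cases j
    · have : Subsingleton (W ⧸ (zpowers x).subgroupOf W) :=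
        (Nat.card_eq_one_iff_unique.mp (hj.trans (pow_zero p))).1
      exact fun a b => Subsingleton.elim _ _
    · haveI := isCyclic_of_prime_card (hj.trans (pow_one p))
      exact fun a b => mul_comm' a b
    · exact fun a b => (IsPGroup.isMulCommutative_of_card_eq_prime_sq hj).is_comm.comm a b
  -- the kernel centralizes `R` up to `p`-elements
  have hker : ρ.ker.map N.subtype ≤ H := by
    have hcop : ∀ k : N, k ∈ ρ.ker → Nat.Coprime (orderOf (k : K)) p → (k : K) ∈ Cz := by
      intro k hk hco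
      set α : MulAut R := R.normalizerMonoidHom k with hα
      have hαv : ∀ r : R, ((α r : R) : K) = k * r * (k : K)⁻¹ := fun r => rfl
      have hαo : Nat.Coprime (orderOf α) p :=
        (hco.coprime_dvd_left ((orderOf_map_dvd _ k).trans (orderOf_coe k).symm.dvd))
      have hα1 : α = 1 := hWd α hαo fun w hw => by
        have hwW : (w : K) ∈ W := ⟨w, hw, rfl⟩
        have h1 : ρ k ((⟨w, hwW⟩ : W) : W ⧸ (zpowers x).subgroupOf W) = ((⟨w, hwW⟩ : W) : W ⧸ _) := by
          rw [MonoidHom.mem_ker.mp hk]; rfl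
        rw [planeAct_mk, mk_eq_mk_iff] at h1
        refine PGroup.fixed_of_displacement_fixed hRp hαo (Subtype.ext ?_)
        obtain ⟨i, hi⟩ := mem_zpowers_iff.mp h1
        have hd : ((w⁻¹ * α w : R) : K) = x ^ i := by
          rw [coe_mul, coe_inv, hαv]
          have hk' : (k : K) * w * (k : K)⁻¹ = x ^ i * w := by rw [hi]; group
          rw [hk', ((h.comm (hR.1 w.2)).zpow_left i).eq, inv_mul_cancel_left]
        rw [hαv, hd, ← conj_zpow, hNx k k.2]
      refine mem_centralizer_iff.mpr fun r hr => ?_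
      have := congrArg (fun a : MulAut R => ((a ⟨r, hr⟩ : R) : K)) hα1
      simp only [MulAut.one_apply] at this
      rw [hαv] at this
      exact (mul_inv_eq_iff_eq_mul.mp this).symm
    set H' := (T.subgroupOf N) with hH'
    have hidx : ¬ p ∣ (H'.subgroupOf ρ.ker).index := Transfer.not_dvd_relIndex_inf (C := ρ.ker) hR.2
    intro a ha
    obtain ⟨k, hk, rfl⟩ := ha
    obtain ⟨t, ht, c, hc, htc⟩ := mem_sup_of_normal_right.mp
      ((Transfer.sup_pResidual_eq_top hidx).symm ▸ mem_top (⟨k, hk⟩ : ρ.ker))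
    have hcC : ((c : N) : K) ∈ Cz := by
      have : (Cfsg.pResidual p ρ.ker).map ρ.ker.subtype ≤ Cz.subgroupOf N := by
        rw [Transfer.map_pResidual_subtype]
        exact (closure_le _).mpr fun u hu => hcop u hu.1 (by rw [orderOf_coe]; exact hu.2)
      exact this ⟨c, hc, rfl⟩
    have : (k : K) = ((t : N) : K) * ((c : N) : K) := congrArg (fun u : ρ.ker => ((u : N) : K)) htc.symm
    show (k : K) ∈ H
    rw [this]
    exact mul_mem (mem_sup_left (mem_subgroupOf.mp (mem_subgroupOf.mp ht))) (mem_sup_right hcC)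
  -- Sylow subgroups of the image
  set X := ρ.range with hX
  set TN := T.subgroupOf N with hTN
  have hTp : IsPGroup p (TN.map ρ.rangeRestrict) :=
    ((P.isPGroup'.to_le inf_le_left).comap_of_injective N.subtype N.subtype_injective).map _
  have hTi : ¬ p ∣ (TN.map ρ.rangeRestrict).index := fun hd => hR.2 (hd.trans
    (index_map_dvd _ ρ.rangeRestrict_surjective))
  let S : Sylow p X := hTp.toSylow hTi
  have hHimg : ∀ a : N, (a : K) ∈ H ↔ ρ.rangeRestrict a ∈ (S : Subgroup X) := by
    intro a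
    constructor
    · intro ha
      have hle : H ≤ ((TN.map ρ.rangeRestrict).comap ρ.rangeRestrict).map N.subtype := by
        refine sup_le (fun t ht => ⟨⟨t, ht.2⟩, ⟨⟨t, ht.2⟩, mem_subgroupOf.mpr ht, rfl⟩, rfl⟩) fun c hc => ?_
        refine ⟨⟨c, centralizer_le_normalizer _ hc⟩, ?_, rfl⟩
        show ρ.rangeRestrict _ ∈ TN.map ρ.rangeRestrict
        have : ρ.rangeRestrict ⟨c, centralizer_le_normalizer _ hc⟩ = 1 := by
          refine Subtype.ext (MulEquiv.ext fun v => ?_)
          show ρ ⟨c, centralizer_le_normalizer _ hc⟩ v = v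
          induction v using QuotientGroup.induction_on with
          | _ w =>
            rw [planeAct_mk]
            refine congrArg _ (Subtype.ext ?_)
            show c * (w : K) * c⁻¹ = w
            rw [← mem_centralizer_iff.mp hc w (hWR w.2), mul_inv_cancel_right]
        rw [this]; exact one_mem _
      obtain ⟨b, hb, hba⟩ := hle ha
      rw [show a = b from Subtype.ext hba.symm]
      exact hb
    · intro ha
      obtain ⟨t, ht, hta⟩ := ha
      have hk : (t⁻¹ * a) ∈ ρ.ker := by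
        have := congrArg Subtype.val hta
        rw [MonoidHom.mem_ker, map_mul, map_inv, inv_mul_eq_one]
        exact this
      have : (a : K) = (t : K) * ((t⁻¹ * a : N) : K) := by simp
      rw [this]
      exact mul_mem (mem_sup_left (mem_subgroupOf.mp ht)) (hker ⟨_, hk, rfl⟩)
  rcases plane_dichotomy hj hj2 hVexp hVcm X with hall | ⟨hj2', ⟨τ, hτX, hτ⟩, hQ⟩
  · left
    intro n hn a ha
    haveI : (S : Subgroup X).Normal := by
      haveI : Subsingleton (Sylow p X) := ⟨hall⟩
      exact Sylow.normal_of_subsingleton S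
    have hSn : (S : Subgroup X).Normal := inferInstance
    have h1 := hSn.conj_mem _
      ((hHimg ⟨a, localH_le R ha⟩).mp ha) (ρ.rangeRestrict ⟨n, hn⟩)
    rw [← map_inv, ← map_mul, ← map_mul] at h1
    exact (hHimg _).mpr h1
  right
  subst hj2'
  -- `W` is nonabelian with centre `<x>`
  have hWnc : ¬ IsMulCommutative W := fun hc => by
    haveI := hc
    have := h.rk W hc hWe'
    rw [hWj] at this
    exact absurd ((Nat.pow_le_pow_iff_right hp.out.one_lt).mp this) (by norm_num)
  have hE : Resist.Extra p W := Resist.extra_of_card hWj hWnc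
  have hxc : (⟨x, hxW⟩ : W) ∈ center W :=
    mem_center_iff.mpr fun g => Subtype.ext (h.comm (hR.1 (hWR g.2))).eq.symm
  have hcz : center W = (zpowers x).subgroupOf W := by
    refine (PGroup.eq_of_le_of_card_le (fun w hw => ?_) (hE.center.le.trans hxcard.ge)).symm
    obtain ⟨i, hi⟩ := mem_zpowers_iff.mp (mem_subgroupOf.mp hw)
    rw [show w = (⟨x, hxW⟩ : W) ^ i from Subtype.ext (by simp [hi])]
    exact zpow_mem hxc i
  obtain ⟨a, b, hab⟩ := hE.exists_gen
  -- every element of `R` is inner on `W`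
  have hdec : ∀ r ∈ R, ∃ w ∈ W, ∀ v ∈ W, Commute (w⁻¹ * r) v := by
    intro r hr
    have hrN : r ∈ N := le_normalizer hr
    haveI : (R.subgroupOf N).Normal := inferInstanceAs (R.subgroupOf (normalizer (R : Set K))).Normal
    set Q := (R.subgroupOf N).map ρ.rangeRestrict
    have hQ1 : Q = ⊥ := hQ Q ((‹(R.subgroupOf N).Normal›).map _ ρ.rangeRestrict_surjective)
      ((hRp.comap_of_injective N.subtype N.subtype_injective).map _)
    have hρr : ρ ⟨r, hrN⟩ = 1 := by
      have : ρ.rangeRestrict ⟨r, hrN⟩ ∈ Q := ⟨⟨r, hrN⟩, mem_subgroupOf.mpr hr, rfl⟩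
      rw [hQ1, mem_bot] at this
      exact congrArg Subtype.val this
    obtain ⟨w, hw⟩ := hE.exists_inner (W.normalizerMonoidHom ⟨r, hNW hrN⟩) fun v => by
      rw [hcz, mem_subgroupOf]
      have h1 : ρ ⟨r, hrN⟩ (v : W ⧸ (zpowers x).subgroupOf W) = v := by rw [hρr]; rfl
      rw [planeAct_mk, mk_eq_mk_iff] at h1
      exact h1
    refine ⟨w, w.2, fun v hv => ?_⟩
    have h2 : r * v * r⁻¹ = (w : K) * v * (w : K)⁻¹ := congrArg Subtype.val (hw ⟨v, hv⟩)
    show (w : K)⁻¹ * r * v = v * ((w : K)⁻¹ * r)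
    calc (w : K)⁻¹ * r * v = (w : K)⁻¹ * (r * v * r⁻¹) * r := by group
      _ = _ := by rw [h2]; group
  -- `C_R(W)` is cyclic
  set C : Subgroup K := R ⊓ centralizer (W : Set K) with hC
  have hCx : ∀ c ∈ C, c ^ p = 1 → c ∈ zpowers x := by
    intro c hc hcp
    by_contra hne
    have hco : orderOf c = p := orderOf_eq_prime hcp fun e => hne (e ▸ one_mem _)
    have hcomm : ∀ w ∈ W, ∃ i k : ℤ, w = x ^ i * c ^ k := fun w hw =>
      Agent.S3049.dependent h.rk (hWe' w hw) h.ord hco (h.comm (hR.1 (hWR hw))).symm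
        (mem_centralizer_iff.mp hc.2 w hw) (h.comm (hR.1 hc.1)) hne
    refine hWnc ⟨⟨fun u v => Subtype.ext ?_⟩⟩
    obtain ⟨i, k, hu⟩ := hcomm u u.2
    obtain ⟨i', k', hv⟩ := hcomm v v.2
    show (u : K) * v = v * u
    rw [hu, hv]
    exact ((((Commute.refl x).zpow_zpow i i').mul_right ((h.comm (hR.1 hc.1)).zpow_zpow i k')).mul_left
      ((((h.comm (hR.1 hc.1)).zpow_zpow i' k).symm).mul_right ((Commute.refl c).zpow_zpow k k'))).eq
  have hCc : IsCyclic C := by
    refine Isolated.isCyclic_of_unique h.ne2 _ C (hRp.to_le inf_le_left) le_rfl fun u v hu hup hvp => ?_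
    obtain ⟨n, hn⟩ := Resist.exists_pow_eq (p := p) (c := x) (d := (u : K)) h.pow
      (hCx u u.2 (by simpa using congrArg Subtype.val hup)) (fun e => hu (Subtype.ext e))
    obtain ⟨i, hi⟩ := hCx v v.2 (by simpa using congrArg Subtype.val hvp)
    refine ⟨(n : ℤ) * i, Subtype.ext ?_⟩
    show (((u ^ ((n : ℤ) * i) : C)) : K) = v
    rw [coe_zpow, zpow_mul, zpow_natCast, hn]
    exact hi
  haveI := hCc
  refine ⟨W, hWR, hWe', ?_, ?_, ?_⟩
  · intro n hn hco r hr
    obtain ⟨w, hw, hc⟩ := hdec r hr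
    set c := w⁻¹ * r with hcdef
    have hcC : c ∈ C := mem_inf.mpr ⟨mul_mem (inv_mem (hWR hw)) hr, mem_centralizer_iff.mpr fun v hv => (hc v hv).eq.symm⟩
    -- `n` centralizes `C`
    set α : MulAut R := R.normalizerMonoidHom ⟨n, hn⟩ with hα
    have hαv : ∀ r : R, ((α r : R) : K) = n * r * n⁻¹ := fun r => rfl
    have hαo : Nat.Coprime (orderOf α) p :=
      (hco.coprime_dvd_left ((orderOf_map_dvd _ _).trans (Subgroup.orderOf_mk n hn).dvd))
    have hnc : n * c * n⁻¹ = c := by
      have := PGroup.fixed_of_fix_order_p_abelian hRp hαo (A := C.subgroupOf R)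
        (fun u hu v hv => Subtype.ext (show (u : K) * v = v * u from
          congrArg Subtype.val (mul_comm' (⟨u, hu⟩ : C) ⟨v, hv⟩)))
        (fun u hu => by
          rw [mem_subgroupOf, hαv]
          refine ⟨(mem_normalizer_iff.mp hn u).mp u.2, mem_centralizer_iff.mpr fun v hv => ?_⟩
          have hv' : n⁻¹ * v * n ∈ W := by
            simpa using (mem_normalizer_iff.mp (hNW (inv_mem hn)) v).mp hv
          have := mem_centralizer_iff.mp (mem_subgroupOf.mp hu).2 _ hv'
          calc v * (n * u * n⁻¹) = n * (n⁻¹ * v * n * u) * n⁻¹ := by group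
            _ = _ := by rw [this]; group)
        (fun u hu hup => Subtype.ext (by
          obtain ⟨i, hi⟩ := hCx u (mem_subgroupOf.mp hu) (by simpa using congrArg Subtype.val hup)
          rw [hαv, ← hi, ← conj_zpow, hNx n hn]))
        ⟨c, hcC.1⟩ (mem_subgroupOf.mpr hcC)
      exact congrArg Subtype.val this
    have hrw : r = w * c := by rw [hcdef, mul_inv_cancel_left]
    rw [hrw, show n * (w * c) * n⁻¹ * (w * c)⁻¹ = n * w * n⁻¹ * (n * c * n⁻¹ * c⁻¹) * w⁻¹ by group, hnc,
      mul_inv_cancel, mul_one]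
    exact mul_mem ((mem_normalizer_iff.mp (hNW hn) w).mp hw) (inv_mem hw)
  · have hc := hE.comm a b
    rw [hcz, mem_subgroupOf] at hc
    obtain ⟨n, hn⟩ := Resist.exists_pow_eq (p := p) (c := x) (d := ((⁅a, b⁆ : W) : K)) h.pow hc
      (fun e => hab (Subtype.ext e))
    rw [← hn]
    refine pow_mem ?_ n
    have : ((⁅a, b⁆ : W) : K) = ⁅(a : K), (b : K)⁆ := map_commutatorElement W.subtype a b
    rw [this]
    exact commutator_mem_commutator a.2 b.2
  · obtain ⟨y, hy⟩ := hτX
    refine ⟨y, y.2, fun a ha => ?_, fun w hw => ?_⟩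
    · have hcentral : ρ (y * ⟨a, localH_le R ha⟩ * y⁻¹) = ρ ⟨a, localH_le R ha⟩ := by
        rw [map_mul, map_mul, map_inv, mul_inv_eq_iff_eq_mul, hy]
        refine MulEquiv.ext fun v => ?_
        rw [MulAut.mul_apply, MulAut.mul_apply, hτ, hτ, map_inv]
      refine (hHimg (y * ⟨a, localH_le R ha⟩ * y⁻¹)).mpr ?_
      rw [show ρ.rangeRestrict (y * ⟨a, localH_le R ha⟩ * y⁻¹) = ρ.rangeRestrict ⟨a, localH_le R ha⟩ from
        Subtype.ext hcentral]
      exact (hHimg _).mp ha
    · have h1 : ρ y ((⟨w, hw⟩ : W) : W ⧸ (zpowers x).subgroupOf W) = (((⟨w, hw⟩ : W)⁻¹ : W) : W ⧸ _) := by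
        rw [hy, hτ, QuotientGroup.mk_inv]
      rw [planeAct_mk, mk_eq_mk_iff] at h1
      simpa using h1

end Cfsg.Agent.IsolatedRankTwo
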