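import Cfsg.Agent.Lib.IsolatedRankTwo.Focal
import Cfsg.Agent.Lib.IsolatedRankTwo.Action
import Cfsg.Agent.Lib.RankTwo.MetacyclicAction

/-!
# The Sylow subgroup of a perfect group of rank two with an isolated element

* `sylow_structure`: extraspecial of order `p ^ 3` and exponent `p`, or `p = 3` and maximal class of odd exponent.
-/

set_option autoImplicit false
set_option linter.unusedSectionVars false
set_option linter.style.haveILetI false

open Subgroup
open scoped commutatorElement Pointwise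

universe u

namespace Cfsg.Agent.IsolatedRankTwo

variable {K : Type u} [Group K] [Finite K] {p : ℕ} [hp : Fact p.Prime] {P : Sylow p K} {x : K}

theorem exists_action (h : Hyp p P x) (hperf : _root_.commutator K = ⊤) :
    ∃ A : Subgroup K, A ≤ normalizer ((P : Subgroup K) : Set K) ∧ (Nat.card A).Coprime p ∧
      ⁅(P : Subgroup K), A⁆ = (P : Subgroup K) := by
  set N := normalizer ((P : Subgroup K) : Set K) with hN
  haveI : ((P : Subgroup K).subgroupOf N).Normal :=
    inferInstanceAs ((P : Subgroup K).subgroupOf (normalizer ((P : Subgroup K) : Set K))).Normal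
  have hidx : ¬ p ∣ ((P : Subgroup K).subgroupOf N).index := fun hd =>
    P.not_dvd_index (hd.trans (relIndex_dvd_index_of_le P.le_normalizer))
  have hco : (Nat.card ((P : Subgroup K).subgroupOf N)).Coprime ((P : Subgroup K).subgroupOf N).index := by
    obtain ⟨k, hk⟩ := IsPGroup.iff_card.mp P.isPGroup'
    rw [Nat.card_congr (subgroupOfEquivOfLe P.le_normalizer).toEquiv, hk]
    exact ((hp.out.coprime_iff_not_dvd).mpr hidx).pow_left k
  obtain ⟨B, hB⟩ := exists_right_complement'_of_coprime hco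
  refine ⟨B.map N.subtype, map_subtype_le B, ?_, ?_⟩
  · rw [card_map_of_injective N.subtype_injective, ← hB.symm.index_eq_card]
    exact ((hp.out.coprime_iff_not_dvd).mpr hidx).symm
  set A := B.map N.subtype
  have hAN : A ≤ N := map_subtype_le B
  have hW : ⁅(P : Subgroup K), A⁆ ≤ (P : Subgroup K) := le_normalizer_iff_commutator_le_left.mp hAN
  set Φ := (frattini ↥(P : Subgroup K)).map (P : Subgroup K).subtype with hΦ
  set M := ⁅(P : Subgroup K), A⁆ ⊔ Φ with hM
  have hMP : M ≤ (P : Subgroup K) := sup_le hW (map_subtype_le _)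
  have hcomm : ∀ a ∈ (P : Subgroup K), ∀ b ∈ (P : Subgroup K), ⁅a, b⁆ ∈ Φ := fun a ha b hb =>
    ⟨⁅(⟨a, ha⟩ : (P : Subgroup K)), ⟨b, hb⟩⁆, PGroup.commutatorElement_mem_frattini P.isPGroup' _ _,
      map_commutatorElement _ _ _⟩
  have hPM : (P : Subgroup K) ≤ M := by
    refine le_trans (fun u hu => commutator_inf_le h ⟨hperf ▸ mem_top u, hu⟩) ?_
    rw [focalBound, commutator_le]
    intro u hu g hg
    obtain ⟨⟨t, a⟩, hta⟩ := hB.2 ⟨g, hg⟩
    have hg' : g = ((t : N) : K) * ((a : N) : K) := congrArg Subtype.val hta.symm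
    have ht : ((t : N) : K) ∈ (P : Subgroup K) := mem_subgroupOf.mp t.2
    have hua : ⁅u, ((a : N) : K)⁆ ∈ M := mem_sup_left (commutator_mem_commutator hu ⟨a, a.2, rfl⟩)
    rw [hg', show ⁅u, ((t : N) : K) * ((a : N) : K)⁆ = ⁅u, ((t : N) : K)⁆ *
      (⁅((t : N) : K), ⁅u, ((a : N) : K)⁆⁆ * ⁅u, ((a : N) : K)⁆) by
        simp only [commutatorElement_def]; group]
    exact mul_mem (mem_sup_right (hcomm _ hu _ ht)) (mul_mem (mem_sup_right (hcomm _ ht _ (hMP hua))) hua)
  refine le_antisymm hW (subgroupOf_eq_top.mp (frattini_nongenerating ?_))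
  refine map_injective (P : Subgroup K).subtype_injective ?_
  rw [Subgroup.map_sup, map_subgroupOf_eq_of_le hW, ← MonoidHom.range_eq_map, range_subtype]
  exact le_antisymm hMP hPM

theorem sylow_structure (h : Hyp p P x) (hperf : _root_.commutator K = ⊤) :
    (Cfsg.IsExtraspecial p ↥(P : Subgroup K) ∧ Nat.card (P : Subgroup K) = p ^ 3 ∧
      ∀ g : (P : Subgroup K), g ^ p = 1) ∨
    (p = 3 ∧ ∃ k : ℕ, 2 ≤ k ∧ Nat.card (P : Subgroup K) = 3 ^ (2 * k + 1) ∧
      ∃ _ : Group.IsNilpotent ↥(P : Subgroup K), Group.nilpotencyClass ↥(P : Subgroup K) = 2 * k) := by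
  obtain ⟨A, hAN, hAco, hAgen⟩ := exists_action h hperf
  have hxA : ∀ a ∈ A, a * x * a⁻¹ = x := fun a ha => mul_inv_eq_iff_eq_mul.mpr
    (mem_centralizer_singleton_iff.mp
      (Isolated.normalizer_le_centralizer h.iso P.isPGroup' h.mem (hAN ha)))
  have hxC : x ∈ centralizer (A : Set K) :=
    mem_centralizer_iff.mpr fun a ha => mul_inv_eq_iff_eq_mul.mp (hxA a ha)
  have hnm : ¬ Cfsg.IsMetacyclic ↥(P : Subgroup K) := by
    intro hm
    obtain ⟨-, -, hinf, -⟩ := RankTwo.metacyclic_coprime h.ne2 P.isPGroup' hm hAN hAco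
    rw [hAgen] at hinf
    have : x ∈ (⊥ : Subgroup K) := hinf ▸ ⟨h.mem, h.mem, hxC⟩
    exact h.ne_one (mem_bot.mp this)
  have hrk : Cfsg.PRankLE p 2 ↥(P : Subgroup K) := fun E hE hEe => by
    rw [← card_map_of_injective (f := (P : Subgroup K).subtype) (P : Subgroup K).subtype_injective]
    haveI := hE
    refine h.rk _ inferInstance ?_
    rintro _ ⟨b, hb, rfl⟩
    rw [← map_pow, hEe b hb, map_one]
  set ψ : A →* MulAut ↥(P : Subgroup K) :=
    (P : Subgroup K).normalizerMonoidHom.comp (Subgroup.inclusion hAN) with hψ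
  have hψv : ∀ (a : A) (g : (P : Subgroup K)), ((ψ a g : (P : Subgroup K)) : K) = a * g * (a : K)⁻¹ :=
    fun a g => rfl
  refine structure_of_action h.ne2 P.isPGroup' hrk hnm ψ.range
    (hAco.coprime_dvd_left (Subgroup.card_range_dvd ψ)) (fun M hM => ?_) ⟨x, h.mem⟩ ?_ ?_ ?_
  · have hle : (P : Subgroup K) ≤ M.map (P : Subgroup K).subtype := by
      conv_lhs => rw [← hAgen]
      rw [commutator_le]
      intro g hg a ha
      refine ⟨(ψ ⟨a, ha⟩ ⟨g, hg⟩ * ⟨g, hg⟩⁻¹)⁻¹, inv_mem (hM _ ⟨⟨a, ha⟩, rfl⟩ _), ?_⟩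
      simp only [coe_subtype, coe_inv, coe_mul, hψv, commutatorElement_def]
      group
    refine eq_top_iff.mpr fun g _ => ?_
    obtain ⟨g', hg', he⟩ := hle g.2
    exact (Subtype.ext he : g' = g) ▸ hg'
  · rw [Subgroup.orderOf_mk, h.ord]
  · exact mem_center_iff.mpr fun g => Subtype.ext (h.comm g.2).eq.symm
  · rintro _ ⟨a, rfl⟩
    exact Subtype.ext ((hψv a _).trans (hxA a a.2))

end Cfsg.Agent.IsolatedRankTwo
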