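import Cfsg.Agent.Lib.MaxClass.Degree
import Cfsg.Agent.Lib.MaxClass.SmallEssential
import Cfsg.Agent.Lib.MaxClassSylow.Local
import Cfsg.Agent.Lib.RankTwoOdd.Thin

/-!
# Maximal class 3-groups with a coprime group of automorphisms fixing the centre

* `mem_center_of_gens`, `commutator_le_of_gens`, `isMetacyclic_of_comm`: small tools.
* `parity`: if such a group of order `3 ^ n`, `n ≥ 4`, has no fixed quotient then `n` is odd.
-/

set_option autoImplicit false
set_option linter.unusedSectionVars false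
set_option linter.style.haveILetI false

open Subgroup
open scoped commutatorElement Pointwise

universe u

namespace Cfsg.Agent.IsolatedRankTwo

open PearlRank MaxClassPower

variable {X : Type u} [Group X] [Finite X]

theorem mem_center_of_gens {S : Set X} (hS : closure S = ⊤) {z : X} (h : ∀ s ∈ S, s * z = z * s) :
    z ∈ center X := by
  refine mem_center_iff.mpr fun g => ?_
  have : (⊤ : Subgroup X) ≤ centralizer ({z} : Set X) := hS.ge.trans ((closure_le _).mpr fun s hs =>
    mem_centralizer_singleton_iff.mpr (h s hs))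
  exact mem_centralizer_singleton_iff.mp (this (mem_top g))

/-- If the generators commute modulo `N` then the derived group is inside `N`. -/
theorem commutator_le_of_gens (N : Subgroup X) [N.Normal] {S : Set X} (hS : closure S = ⊤)
    (h : ∀ a ∈ S, ∀ b ∈ S, ⁅a, b⁆ ∈ N) : ⁅(⊤ : Subgroup X), (⊤ : Subgroup X)⁆ ≤ N := by
  have hc : closure (QuotientGroup.mk' N '' S) = ⊤ := by
    rw [← MonoidHom.map_closure, hS, map_top_of_surjective _ (QuotientGroup.mk'_surjective N)]
  haveI hm : IsMulCommutative (closure (QuotientGroup.mk' N '' S)) := isMulCommutative_closure (by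
    rintro _ ⟨a, ha, rfl⟩ _ ⟨b, hb, rfl⟩
    rw [← commutatorElement_eq_one_iff_mul_comm, ← map_commutatorElement]
    exact (QuotientGroup.eq_one_iff _).mpr (h a ha b hb))
  refine commutator_le.mpr fun a _ b _ => (QuotientGroup.eq_one_iff _).mp ?_
  show QuotientGroup.mk' N ⁅a, b⁆ = 1
  rw [map_commutatorElement, commutatorElement_eq_one_iff_mul_comm]
  exact congrArg Subtype.val (mul_comm' (⟨_, hc ▸ mem_top (QuotientGroup.mk' N a)⟩ : Subgroup.closure (QuotientGroup.mk' N '' S))
    ⟨_, hc ▸ mem_top (QuotientGroup.mk' N b)⟩)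

theorem isMetacyclic_of_comm {p : ℕ} [hp : Fact p.Prime] (hX : IsPGroup p X) (hrk : Cfsg.PRankLE p 2 X)
    (hp2 : p ≠ 2) (hcm : ∀ u v : X, u * v = v * u) : Cfsg.IsMetacyclic X := by
  refine RankTwoOdd.isMetacyclic_of_thin hp2 hX fun T _ hT => ?_
  let f : X →* X :=
    { toFun := fun u => u ^ p
      map_one' := one_pow p
      map_mul' := fun u v => (show Commute u v from hcm u v).mul_pow p }
  have hle : f.range ≤ T := by rintro _ ⟨u, rfl⟩; exact hT u
  have hk : Nat.card f.ker ≤ p ^ 2 :=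
    hrk f.ker ⟨⟨fun a b => Subtype.ext (hcm a b)⟩⟩ fun a ha => MonoidHom.mem_ker.mp ha
  have h1 : f.range.index = Nat.card f.ker := by
    have h2 := f.range.card_mul_index
    rw [← Subgroup.index_ker, ← f.ker.index_mul_card] at h2
    exact Nat.eq_of_mul_eq_mul_left (Nat.pos_of_ne_zero Subgroup.index_ne_zero_of_finite) h2
  exact (Nat.le_of_dvd (Nat.pos_of_ne_zero index_ne_zero_of_finite) (index_dvd_of_le hle)).trans (h1 ▸ hk)

theorem comm_sign {Q : Type u} [Group Q] {a b : Q} (h : ⁅a, b⁆ ∈ center Q) {i j : ℤ} (hi : i = 1 ∨ i = -1)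
    (hj : j = 1 ∨ j = -1) : ⁅a ^ i, b ^ j⁆ = ⁅a, b⁆ ^ (i * j) := by
  have h1 : ∀ {u v : Q}, ⁅u, v⁆ ∈ center Q → ⁅u⁻¹, v⁆ = ⁅u, v⁆⁻¹ := by
    intro u v huv
    rw [show ⁅u⁻¹, v⁆ = u⁻¹ * ⁅u, v⁆⁻¹ * u by simp only [commutatorElement_def]; group,
      mem_center_iff.mp (inv_mem huv) u⁻¹, inv_mul_cancel_right]
  have h2 : ∀ {u v : Q}, ⁅u, v⁆ ∈ center Q → ⁅u, v⁻¹⁆ = ⁅u, v⁆⁻¹ := by
    intro u v huv
    rw [← commutatorElement_inv v⁻¹ u, h1 (by rw [← commutatorElement_inv]; exact inv_mem huv),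
      inv_inv, commutatorElement_inv]
  rcases hi with rfl | rfl <;> rcases hj with rfl | rfl <;>
    simp only [zpow_one, zpow_neg_one, one_mul, mul_one, mul_neg, neg_neg]
  · exact h2 h
  · exact h1 h
  · rw [h1 (by rw [h2 h]; exact inv_mem h), h2 h, inv_inv]

theorem sign_of_index_three {Q : Type u} [Group Q] (M : Subgroup Q) [M.Normal] (hM : M.index = 3) {g h : Q}
    (hg : g ∉ M) (hh : h ∉ M) : ∃ i : ℤ, (i = 1 ∨ i = -1) ∧ h * (g ^ i)⁻¹ ∈ M := by
  haveI : Fact (Nat.Prime 3) := ⟨Nat.prime_three⟩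
  have hc : Nat.card (Q ⧸ M) = 3 := by rw [← index_eq_card, hM]
  have hg1 : (g : Q ⧸ M) ≠ 1 := fun e => hg ((QuotientGroup.eq_one_iff g).mp e)
  haveI : Finite (Q ⧸ M) := Nat.finite_of_card_ne_zero (by omega)
  have hord : orderOf (g : Q ⧸ M) = 3 := orderOf_eq_prime (by rw [← hc]; exact pow_card_eq_one') hg1
  obtain ⟨k, hk⟩ := mem_powers_iff_mem_zpowers.mpr
    ((zpowers_eq_top_of_prime_card hc hg1) ▸ mem_top (h : Q ⧸ M) : (h : Q ⧸ M) ∈ zpowers (g : Q ⧸ M))
  simp only at hk
  rw [← pow_mod_orderOf, hord] at hk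
  have h3 : k % 3 = 0 ∨ k % 3 = 1 ∨ k % 3 = 2 := by omega
  rcases h3 with h0 | h1 | h2
  · rw [h0, pow_zero] at hk
    exact absurd ((QuotientGroup.eq_one_iff h).mp hk.symm) hh
  · refine ⟨1, Or.inl rfl, (QuotientGroup.eq_one_iff _).mp ?_⟩
    rw [zpow_one, QuotientGroup.mk_mul, QuotientGroup.mk_inv, ← hk, h1, pow_one, mul_inv_cancel]
  · refine ⟨-1, Or.inr rfl, (QuotientGroup.eq_one_iff _).mp ?_⟩
    rw [zpow_neg_one, inv_inv, QuotientGroup.mk_mul, ← hk, h2, ← pow_succ]
    have h33 := pow_orderOf_eq_one (g : Q ⧸ M)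
    rw [hord] at h33
    exact h33

variable [Fact (Nat.Prime 3)]

theorem twoStep_eq_one {n : ℕ} (c : Mc X 3 n) (hev : Even n) {k : ℕ} (hk : 1 ≤ k) (hkn : k ≤ n - 3) :
    twoStep X k = twoStep X 1 := by
  by_cases hk4 : k ≤ n - 4
  · exact c.twoStep_const k hk (Or.inl hk4)
  obtain ⟨j, h1, h2, h3, he⟩ := c.twoStep_periodic k hk hkn
  rw [← he]
  rcases (show j = 1 ∨ j = 2 by omega) with rfl | rfl
  · rfl
  · obtain ⟨m, hm⟩ := hev
    exact c.twoStep_const 2 (by norm_num) (Or.inl (by omega))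

theorem parity (A : Subgroup (MulAut X)) (hA : (Nat.card A).Coprime 3)
    (hgen : ∀ M : Subgroup X, (∀ a ∈ A, ∀ g, a g * g⁻¹ ∈ M) → M = ⊤)
    {n : ℕ} (hn : Nat.card X = 3 ^ n) (hn4 : 4 ≤ n)
    (hlcs : (⊤ : Subgroup X).lowerCentralSeries (n - 2) ≠ ⊥)
    (x : X) (hx : orderOf x = 3) (hxc : x ∈ center X) (hxfix : ∀ a ∈ A, a x = x) :
    ∃ k : ℕ, 2 ≤ k ∧ Nat.card X = 3 ^ (2 * k + 1) ∧
      ∃ _ : Group.IsNilpotent X, Group.nilpotencyClass X = 2 * k := by
  haveI hnil : Group.IsNilpotent X := (IsPGroup.of_card hn).isNilpotent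
  have c : Mc X 3 n := Mc.of_not_top hn (by omega) fun h =>
    hlcs (Subgroup.lowerCentralSeries_eq_bot_iff_upperCentralSeries_eq_top.mpr h)
  rcases Nat.even_or_odd n with hev | ⟨k, hk⟩
  swap
  · refine ⟨k, by omega, by rw [hn, hk], hnil, ?_⟩
    rw [c.cls]; omega
  exfalso
  set U := twoStep X 1 with hU
  have hUle : L X 1 ≤ U := L_one_le_twoStep 1
  haveI hUn : U.Normal := Subgroup.Normal.of_commutator_le _ (by
    rwa [L, Subgroup.top_lowerCentralSeries_one] at hUle)
  have hUcard : Nat.card U = 3 ^ (n - 1) := c.card_twoStep le_rfl (by omega)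
  have hUi : U.index = 3 := by
    have := U.card_mul_index
    rw [hUcard, hn, show 3 ^ n = 3 ^ (n - 1) * 3 by rw [← pow_succ]; congr 1; omega] at this
    exact Nat.eq_of_mul_eq_mul_left (by positivity) this
  obtain ⟨s, -, hs⟩ := SetLike.exists_of_lt (lt_top_iff_ne_top.mpr (c.twoStep_ne_top le_rfl (by omega) : U ≠ ⊤))
  obtain ⟨u, hu, hu1⟩ := c.exists_mem_twoStep (le_refl 1) (by omega : 1 ≤ n - 3)
  have hL2 : L X 2 ≤ L X 1 := Subgroup.lowerCentralSeries_antitone _ (by norm_num)
  -- the chain of commutators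
  let w : ℕ → X := fun k => Nat.rec u (fun _ v => ⁅s, v⁆) k
  have hw : ∀ k, w (k + 1) = ⁅s, w k⁆ := fun k => rfl
  have hL1 : L X 1 = _root_.commutator X := Subgroup.top_lowerCentralSeries_one
  have hstep : ∀ k, ∀ v ∈ L X k, ∀ g : X, ⁅g, v⁆ ∈ L X (k + 1) := fun k v hv g => by
    rw [← commutatorElement_inv]
    exact inv_mem (commutator_mem_commutator hv (mem_top g))
  have hw1 : w 1 ∈ L X 1 ∧ w 1 ∉ L X 2 := by
    refine ⟨by show ⁅s, u⁆ ∈ L X 1; rw [hL1]; exact commutator_mem_commutator (mem_top _) (mem_top _), fun hmem => ?_⟩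
    refine c.L_lt le_rfl (by omega) ?_
    have htop : closure (({s, u} : Set X) ∪ (L X 1 : Set X)) = ⊤ := by
      rw [Subgroup.closure_union, Subgroup.closure_eq]
      refine PGroup.eq_of_le_of_card_le le_top ?_
      have h1 : L X 1 ⊔ zpowers u ≤ closure ({s, u} : Set X) ⊔ L X 1 :=
        sup_le le_sup_right ((zpowers_le.mpr (subset_closure (by simp))).trans le_sup_left)
      have h2 : U ≤ L X 1 ⊔ zpowers u := by
        refine (PGroup.eq_of_le_of_card_le (sup_le hUle (zpowers_le.mpr hu)) ?_).ge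
        have := PGroup.mul_card_le_of_lt c.pGroup
          (left_lt_sup.2 fun h => hu1 (h (mem_zpowers u)) : L X 1 < L X 1 ⊔ zpowers u)
        rw [c.card_L le_rfl, ← pow_succ'] at this
        rw [hUcard]
        exact le_trans (Nat.pow_le_pow_right (by norm_num) (by omega)) this
      have h3 : U < closure ({s, u} : Set X) ⊔ L X 1 := lt_of_le_of_ne (h2.trans h1) fun e =>
        hs (e.ge (mem_sup_left (subset_closure (by simp))))
      have := PGroup.mul_card_le_of_lt c.pGroup h3
      rw [hUcard, ← pow_succ', show n - 1 + 1 = n by omega] at this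
      rw [card_top, hn]
      exact this
    show L X 1 ≤ L X 2
    rw [show L X 1 = ⁅(⊤ : Subgroup X), (⊤ : Subgroup X)⁆ from hL1]
    refine commutator_le_of_gens _ htop fun a ha b hb => ?_
    rcases hb with hb | hb
    swap; · exact hstep 1 b hb a
    rcases ha with ha | ha
    swap; · exact commutator_mem_commutator ha (mem_top b)
    rcases ha with rfl | rfl <;> rcases hb with rfl | rfl
    · rw [commutatorElement_self]; exact one_mem _
    · exact hmem
    · rw [← commutatorElement_inv]; exact inv_mem hmem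
    · rw [commutatorElement_self]; exact one_mem _
  have hwk : ∀ k, 1 ≤ k → k ≤ n - 2 → w k ∈ L X k ∧ w k ∉ L X (k + 1) := by
    intro k hk
    induction k, hk using Nat.le_induction with
    | base => exact fun _ => hw1
    | succ k hk ih =>
      intro hkn
      obtain ⟨h1, h2⟩ := ih (by omega)
      refine ⟨by rw [hw]; exact hstep k _ h1 s, fun hmem => hs ?_⟩
      show s ∈ twoStep X 1
      rw [← twoStep_eq_one c hev hk (by omega)]
      exact c.mem_twoStep_of hk h1 h2 hmem
  have hUu : ∀ g ∈ U, ∀ k, k ≤ n - 3 → 1 ≤ k → ∀ v ∈ L X k, ⁅g, v⁆ ∈ L X (k + 2) := fun g hg k hkn hk v hv =>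
    mem_twoStep.mp (twoStep_eq_one c hev hk hkn ▸ hg) v hv
  have hUab : ∀ g ∈ U, ∀ v ∈ U, ⁅g, v⁆ ∈ L X 2 := by
    intro g hg v hv
    have hdec : ∀ g ∈ U, ∃ i : ℤ, ∃ l ∈ L X 1, g = u ^ i * l := by
      intro g hg
      have hsup : L X 1 ⊔ zpowers u = U := by
        refine PGroup.eq_of_le_of_card_le (sup_le hUle (zpowers_le.mpr hu)) ?_
        have := PGroup.mul_card_le_of_lt c.pGroup
          (left_lt_sup.2 fun h => hu1 (h (mem_zpowers u)) : L X 1 < L X 1 ⊔ zpowers u)
        rw [c.card_L le_rfl, ← pow_succ'] at this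
        rw [hUcard]
        exact le_trans (Nat.pow_le_pow_right (by norm_num) (by omega)) this
      have : g ∈ ((zpowers u : Set X) * (L X 1 : Set X)) := by
        rw [← Subgroup.mul_normal, sup_comm, hsup]; exact hg
      obtain ⟨_, ⟨i, rfl⟩, l, hl, rfl⟩ := Set.mem_mul.mp this
      exact ⟨i, l, hl, rfl⟩
    obtain ⟨i, l, hl, rfl⟩ := hdec g hg
    obtain ⟨j, m, hm, rfl⟩ := hdec v hv
    refine (QuotientGroup.eq_one_iff _).mp ?_
    show QuotientGroup.mk' (L X 2) _ = 1
    have hc : ∀ l ∈ L X 1, ∀ g : X, Commute (QuotientGroup.mk' (L X 2) g) (QuotientGroup.mk' (L X 2) l) :=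
      fun l hl g => by
        rw [← commutatorElement_eq_one_iff_commute, ← map_commutatorElement]
        exact (QuotientGroup.eq_one_iff _).mpr (hstep 1 l hl g)
    rw [map_commutatorElement, commutatorElement_eq_one_iff_commute, map_mul, map_mul]
    exact (((Commute.refl u).zpow_zpow i j).map _ |>.mul_right (hc m hm _)).mul_left
      ((hc l hl _).symm.mul_right (hc m hm _))
  -- the action
  have hinvL : ∀ (a : MulAut X) (k : ℕ) (v : X), a v ∈ L X k ↔ v ∈ L X k := fun a k v =>
    ⟨fun h => by simpa using MaxClassSylow.map_L_equiv a.symm k h, fun h => MaxClassSylow.map_L_equiv a k h⟩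
  have hinvU : ∀ (a : MulAut X) (v : X), v ∈ U → a v ∈ U := by
    intro a v hv
    rw [hU, mem_twoStep] at hv ⊢
    intro m hm
    obtain ⟨m, rfl⟩ := a.surjective m
    rw [← map_commutatorElement, hinvL]
    exact hv m ((hinvL a 1 m).mp hm)
  -- `u` is fixed modulo the derived group
  have hufix : ∀ a ∈ A, a u * u⁻¹ ∈ L X 1 := by
    intro a ha
    obtain ⟨ε, hε, hεs⟩ := sign_of_index_three U hUi hs
      (fun h => hs (by simpa using hinvU a.symm (a s) h))
    have hLi : ((L X 1).subgroupOf U).index = 3 := by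
      have := ((L X 1).subgroupOf U).card_mul_index
      rw [Nat.card_congr (subgroupOfEquivOfLe hUle).toEquiv, c.card_L le_rfl, hUcard,
        show 3 ^ (n - 1) = 3 ^ (n - 1 - 1) * 3 by rw [← pow_succ]; congr 1; omega] at this
      exact Nat.eq_of_mul_eq_mul_left (by positivity) this
    obtain ⟨φ, hφ, hφu⟩ := sign_of_index_three ((L X 1).subgroupOf U) hLi (g := ⟨u, hu⟩) (h := ⟨a u, hinvU a u hu⟩)
      (fun h => hu1 (mem_subgroupOf.mp h)) (fun h => hu1 ((hinvL a 1 u).mp (mem_subgroupOf.mp h)))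
    rw [mem_subgroupOf] at hφu
    have hφu' : a u * (u ^ φ)⁻¹ ∈ L X 1 := by simpa using hφu
    have main : ∀ k, k ≤ n - 2 → a (w k) * (w k ^ (ε ^ k * φ))⁻¹ ∈ L X (k + 1) := by
      intro k
      induction k with
      | zero => intro _; simpa [w] using hφu'
      | succ k ih =>
        intro hkn
        have hih := ih (by omega)
        set δ := ε ^ k * φ with hδ
        have hδ1 : δ = 1 ∨ δ = -1 := by
          have hpow : ε ^ k = 1 ∨ ε ^ k = -1 := by
            rcases hε with rfl | rfl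
            · exact Or.inl (one_pow k)
            · exact neg_one_pow_eq_or ℤ k
          rcases hpow with h | h <;> rcases hφ with h' | h' <;> simp [hδ, h, h']
        set π := QuotientGroup.mk' (L X (k + 2)) with hπ
        have hcen : π (⁅s, w k⁆) ∈ center (X ⧸ L X (k + 2)) := by
          have hmem : ⁅s, w k⁆ ∈ L X (k + 1) := by
            rw [← hw]; exact (hwk (k + 1) (by omega) hkn).1
          refine mem_center_iff.mpr fun q => ?_
          obtain ⟨g, rfl⟩ := QuotientGroup.mk'_surjective _ q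
          rw [← commutatorElement_eq_one_iff_mul_comm, ← map_commutatorElement]
          exact (QuotientGroup.eq_one_iff _).mpr (hstep (k + 1) _ hmem g)
        rw [map_commutatorElement] at hcen
        set l := a (w k) * (w k ^ δ)⁻¹ with hl
        set u' := a s * (s ^ ε)⁻¹ with hu'
        have hlc : π l ∈ center (X ⧸ L X (k + 2)) := by
          refine mem_center_iff.mpr fun q => ?_
          obtain ⟨g, rfl⟩ := QuotientGroup.mk'_surjective _ q
          rw [← commutatorElement_eq_one_iff_mul_comm, ← map_commutatorElement]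
          exact (QuotientGroup.eq_one_iff _).mpr (hstep (k + 1) _ hih g)
        have hu'w : ⁅π u', π (w k) ^ δ⁆ = 1 := by
          rw [← map_zpow, ← map_commutatorElement]
          refine (QuotientGroup.eq_one_iff _).mpr ?_
          rcases Nat.eq_zero_or_pos k with rfl | hkpos
          · exact hUab u' hεs _ (zpow_mem (by simpa [w] using hu) _)
          · exact hUu u' hεs k (by omega) hkpos _ (zpow_mem (hwk k hkpos (by omega)).1 _)
        refine (QuotientGroup.eq_one_iff _).mp ?_
        show π _ = 1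
        rw [map_mul, map_inv, mul_inv_eq_one, map_zpow, hw, map_commutatorElement, map_commutatorElement]
        have ha1 : π (a s) = π u' * π s ^ ε := by rw [← map_zpow, ← map_mul, hu', inv_mul_cancel_right]
        have ha2 : π (a (w k)) = π l * π (w k) ^ δ := by rw [← map_zpow, ← map_mul, hl, inv_mul_cancel_right]
        rw [ha1, ha2]
        have hgen1 : ⁅π s ^ ε, π (w k) ^ δ⁆ = ⁅π s, π (w k)⁆ ^ (ε * δ) := comm_sign hcen hε hδ1
        have hexpand : ⁅π u' * π s ^ ε, π l * π (w k) ^ δ⁆ = ⁅π u' * π s ^ ε, π (w k) ^ δ⁆ := by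
          rw [(mem_center_iff.mp hlc (π (w k) ^ δ)).symm, commutatorElement_def, commutatorElement_def,
            mul_inv_rev, mul_inv_rev]
          have hcl := mem_center_iff.mp (inv_mem hlc)
          calc _ = π u' * π s ^ ε * π (w k) ^ δ * (π l * (((π s ^ ε)⁻¹ * (π u')⁻¹) * (π l)⁻¹)) *
                (π (w k) ^ δ)⁻¹ := by group
            _ = _ := by rw [hcl, mul_inv_cancel_left]
        rw [hexpand, commutatorElement_mul_left_eq_conj_mul, hgen1, hu'w, mul_one,
          mem_center_iff.mp (zpow_mem hcen _) (π u'), mul_inv_cancel_right]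
        congr 1
        rw [hδ, pow_succ']; ring
    -- the top of the chain lies in the centre and is fixed
    have hn2 : w (n - 2) ∈ L X (n - 2) ∧ w (n - 2) ∉ L X (n - 2 + 1) := hwk (n - 2) (by omega) le_rfl
    have htop := main (n - 2) le_rfl
    rw [show n - 2 + 1 = n - 1 by omega, c.L_bot le_rfl, mem_bot, mul_inv_eq_one] at htop
    rw [show n - 2 + 1 = n - 1 by omega, c.L_bot le_rfl, mem_bot] at hn2
    have hZ : zpowers (w (n - 2)) = L X (n - 2) := by
      refine PGroup.eq_of_le_of_card_le (zpowers_le.mpr hn2.1) ?_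
      rw [Nat.card_zpowers, orderOf_eq_prime (c.pow_eq_one_of_mem hn2.1) hn2.2, c.card_L (by omega),
        show n - 1 - (n - 2) = 1 by omega, pow_one]
    have hxL : x ∈ L X (n - 2) := by
      by_contra hxn
      obtain ⟨i, hi⟩ : ∃ i, 1 ≤ i ∧ x ∈ L X i ∧ x ∉ L X (i + 1) ∧ i ≤ n - 3 := by
        classical
        have hex : ∃ i, x ∉ L X i := ⟨n - 2, hxn⟩
        have h1 : x ∈ L X 1 := c.center_le hxc
        have h2 := Nat.find_spec hex
        have h3 : 2 ≤ Nat.find hex := by
          by_contra hlt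
          rcases (show Nat.find hex = 0 ∨ Nat.find hex = 1 by omega) with h | h <;> rw [h] at h2
          · exact h2 (mem_L_zero x)
          · exact h2 h1
        have h4 : Nat.find hex ≤ n - 2 := Nat.find_min' hex hxn
        refine ⟨Nat.find hex - 1, by omega, ?_, by rwa [Nat.sub_add_cancel (by omega)], by omega⟩
        exact not_not.mp (Nat.find_min hex (by omega))
      exact c.twoStep_ne_top hi.1 hi.2.2.2 (eq_top_iff.mpr fun g _ =>
        c.mem_twoStep_of hi.1 hi.2.1 hi.2.2.1 (by
          rw [commutatorElement_eq_one_iff_mul_comm.mpr (mem_center_iff.mp hxc g)]; exact one_mem _))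
    obtain ⟨m, hm⟩ := hev
    have hσ : ε ^ (n - 2) * φ = φ := by
      have : ε ^ (n - 2) = 1 := by
        rcases hε with rfl | rfl
        · exact one_pow _
        · exact Even.neg_one_pow ⟨m - 1, by omega⟩
      rw [this, one_mul]
    rw [hσ] at htop
    rcases hφ with rfl | rfl
    · simpa using hφu'
    exfalso
    obtain ⟨j, hj⟩ := (hZ.ge hxL : x ∈ zpowers (w (n - 2)))
    have hfx := hxfix a ha
    rw [← hj, map_zpow, htop, zpow_neg_one, inv_zpow] at hfx
    have hxx : x⁻¹ = x := by rw [← hj]; exact hfx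
    have : x ^ 2 = 1 := by
      rw [pow_two]
      nth_rewrite 1 [← hxx]
      exact inv_mul_cancel x
    have := Nat.le_of_dvd (by norm_num) (hx ▸ orderOf_dvd_of_pow_eq_one this : 3 ∣ 2)
    omega
  -- the norm map
  haveI hL1n : (L X 1).Normal := inferInstance
  have hqc : IsMulCommutative (X ⧸ L X 1) :=
    Subgroup.Normal.quotient_commutative_iff_commutator_le.2 hL1.ge
  letI : CommGroup (X ⧸ L X 1) :=
    { (inferInstance : Group (X ⧸ L X 1)) with mul_comm := hqc.is_comm.comm }
  exact (by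
    classical
    haveI : Fintype A := Fintype.ofFinite A
    let Φ : X →* X ⧸ L X 1 :=
      { toFun := fun g => ∏ a : A, ((a : MulAut X) g : X ⧸ L X 1)
        map_one' := Finset.prod_eq_one fun a _ => by rw [map_one]; rfl
        map_mul' := fun g h => by
          refine (Finset.prod_congr rfl fun a _ => ?_).trans Finset.prod_mul_distrib
          rw [map_mul]; rfl }
    have htop := hgen Φ.ker fun a ha g => by
      rw [MonoidHom.mem_ker, map_mul, map_inv, mul_inv_eq_one]
      show ∏ b : A, ((b : MulAut X) (a g) : X ⧸ L X 1) = ∏ b : A, ((b : MulAut X) g : X ⧸ L X 1)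
      exact Fintype.prod_equiv (Equiv.mulRight (⟨a, ha⟩ : A)) _ _ fun b => rfl
    have hΦu : Φ u = (u : X ⧸ L X 1) ^ Nat.card A := by
      show ∏ b : A, ((b : MulAut X) u : X ⧸ L X 1) = _
      rw [Finset.prod_eq_pow_card (b := (u : X ⧸ L X 1)) fun b _ => by
        rw [QuotientGroup.eq_iff_div_mem, div_eq_mul_inv]; exact hufix b b.2,
        Finset.card_univ, Nat.card_eq_fintype_card]
    have h1 : Φ u = 1 := MonoidHom.mem_ker.mp (htop ▸ mem_top u)
    exact hu1 ((QuotientGroup.eq_one_iff u).mp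
      (PGroup.eq_one_of_pow_eq_one_coprime (c.pGroup.to_quotient _) hA (hΦu.symm.trans h1))) : False)

end Cfsg.Agent.IsolatedRankTwo
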