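import Cfsg.Agent.EqLemmas
import Cfsg.Agent.Lib.Resist.Basic

/-!
# Groups of automorphisms of an elementary abelian group of order at most `p ^ 2`

* `plane_dichotomy`: a group `X` of automorphisms either has one Sylow `p`-subgroup or contains the inversion
  and has no nontrivial normal `p`-subgroup.
-/

set_option autoImplicit false
set_option linter.unusedSectionVars false

open Subgroup

universe u

namespace Cfsg.Agent.IsolatedRankTwo

variable {p : ℕ} [hp : Fact p.Prime] {V : Type u} [Group V] [Finite V]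

theorem fixed_all_of_small (hexp : ∀ v : V, v ^ p = 1) (hle : Nat.card V ≤ p) {P : Subgroup (MulAut V)}
    (hP : IsPGroup p P) : P = ⊥ := by
  refine (Subgroup.eq_bot_iff_forall _).mpr fun w hw => ?_
  rcases subsingleton_or_nontrivial V with h | h
  · exact MulEquiv.ext fun v => Subsingleton.elim _ _
  have hV : IsPGroup p V := fun v => ⟨1, by rw [pow_one]; exact hexp v⟩
  obtain ⟨e, he, hfix⟩ := Resist.exists_fixed hV P hP
  have hc : Nat.card (zpowers e) = p := by rw [Nat.card_zpowers, orderOf_eq_prime (hexp e) he]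
  have htop : zpowers e = ⊤ := eq_top_of_le_card _ (by rw [hc]; exact hle)
  refine MulEquiv.ext fun v => ?_
  obtain ⟨i, rfl⟩ := (htop ▸ mem_top v : v ∈ zpowers e)
  rw [map_zpow, hfix w hw, MulAut.one_apply]

theorem plane_dichotomy {j : ℕ} (hV : Nat.card V = p ^ j) (hj : j ≤ 2) (hexp : ∀ v : V, v ^ p = 1)
    (hcm : ∀ a b : V, a * b = b * a) (X : Subgroup (MulAut V)) :
    (∀ S T : Sylow p X, S = T) ∨ (j = 2 ∧ (∃ τ ∈ X, ∀ v, τ v = v⁻¹) ∧
      ∀ Q : Subgroup X, Q.Normal → IsPGroup p Q → Q = ⊥) := by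
  by_cases hall : ∀ S T : Sylow p X, S = T
  · exact Or.inl hall
  right
  push Not at hall
  obtain ⟨S, T, hST⟩ := hall
  have hVp : IsPGroup p V := IsPGroup.of_card hV
  have himg : ∀ S : Sylow p X, IsPGroup p ((S : Subgroup X).map X.subtype) := fun S => S.2.map _
  have hj2 : j = 2 := by
    by_contra hne
    have hb : ∀ S : Sylow p X, (S : Subgroup X) = ⊥ := fun S =>
      (map_eq_bot_iff_of_injective _ X.subtype_injective).mp (fixed_all_of_small hexp (by
        rw [hV]
        exact (Nat.pow_le_pow_right hp.out.pos (show j ≤ 1 by omega)).trans (pow_one p).le) (himg S))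
    exact hST (Sylow.ext ((hb S).trans (hb T).symm))
  subst hj2
  refine ⟨rfl, ?_⟩
  haveI : Nontrivial V := by
    rw [← Finite.one_lt_card_iff_nontrivial, hV]
    exact Nat.one_lt_pow two_ne_zero hp.out.one_lt
  have hfixS : ∀ S : Sylow p X, ∃ e : V, e ≠ 1 ∧ ∀ w : X, w ∈ (S : Subgroup X) → (w : MulAut V) e = e :=
    fun S => by
      obtain ⟨e, he, h⟩ := Resist.exists_fixed hVp _ (himg S)
      exact ⟨e, he, fun w hw => h _ ⟨w, hw, rfl⟩⟩
  have hpk : ∀ (S : Sylow p X) (w : X), w ∈ (S : Subgroup X) → ∃ k : ℕ, (w : MulAut V) ^ p ^ k = 1 := by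
    intro S w hw
    obtain ⟨k, hk⟩ := S.2 ⟨w, hw⟩
    exact ⟨k, by simpa using congrArg (fun t : (S : Subgroup X) => ((t : X) : MulAut V)) hk⟩
  have hcardST : ∀ S T : Sylow p X, (S : Subgroup X) ≤ T → S = T := fun S T h =>
    Sylow.ext (S.is_maximal' T.2 h).symm
  obtain ⟨e, he, hSe⟩ := hfixS S
  obtain ⟨f, hf, hTf⟩ := hfixS T
  have hSne : ∀ S : Sylow p X, ∃ w ∈ (S : Subgroup X), (w : MulAut V) ≠ 1 := by
    intro S'
    by_contra hb
    push Not at hb
    have hbot : (S' : Subgroup X) = ⊥ := (eq_bot_iff_forall _).mpr fun w hw => Subtype.ext (hb w hw)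
    have hS : S' = S := hcardST S' S (hbot ▸ bot_le)
    have hT : S' = T := hcardST S' T (hbot ▸ bot_le)
    exact hST (hS.symm.trans hT)
  obtain ⟨u, huS, hu1⟩ := hSne S
  obtain ⟨v, hvT, hv1⟩ := hSne T
  obtain ⟨k, hk⟩ := hpk S u huS
  -- the two fixed lines differ
  have hfe : f ∉ zpowers e := by
    intro hfe
    have hTe : ∀ w : X, w ∈ (T : Subgroup X) → (w : MulAut V) e = e := by
      intro w hw
      have hef : e ∈ zpowers f := by
        obtain ⟨n, hn⟩ := Resist.exists_pow_eq (hexp e) hfe hf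
        exact hn ▸ pow_mem (mem_zpowers f) n
      obtain ⟨i, rfl⟩ := hef
      rw [map_zpow, hTf w hw]
    obtain ⟨e2, he2⟩ : ∃ e2 : V, e2 ∉ zpowers e := by
      by_contra h
      push Not at h
      have := Subgroup.card_le_of_le (show (⊤ : Subgroup V) ≤ zpowers e from fun v _ => h v)
      rw [card_top, hV, Nat.card_zpowers, orderOf_eq_prime (hexp e) he] at this
      nlinarith [hp.out.two_le]
    set e1 := (u : MulAut V) e2 * e2⁻¹ with he1def
    have he1e : e1 ∈ zpowers e := Resist.plane_transvection hV hexp hcm he u hk (hSe u huS) e2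
    have he11 : e1 ≠ 1 := fun h => hu1 (Resist.plane_ext hV hexp hcm he he2 (by simpa using hSe u huS)
      (by simpa using mul_inv_eq_one.mp h))
    have hee1 : e2 ∉ zpowers e1 := fun h => he2 (zpowers_le.mpr he1e h)
    have hue1 : (u : MulAut V) e1 = e1 := by
      obtain ⟨i, hi⟩ := he1e
      rw [← hi, map_zpow, hSe u huS]
    refine hST (hcardST T S fun w hw => ?_).symm
    obtain ⟨l, hl⟩ := hpk T w hw
    obtain ⟨n, hn⟩ := Resist.exists_transvection_pow hV hexp hcm he11 hee1 hue1
      (show (u : MulAut V) e2 = e1 * e2 by rw [he1def, inv_mul_cancel_right]) hl (by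
        obtain ⟨i, hi⟩ := he1e
        rw [← hi, map_zpow, hTe w hw])
    have : w = u ^ n := Subtype.ext (by simpa using hn)
    exact this ▸ pow_mem huS n
  -- a basis
  set e1 := (u : MulAut V) f * f⁻¹ with he1def
  have he1e : e1 ∈ zpowers e := Resist.plane_transvection hV hexp hcm he u hk (hSe u huS) f
  have he11 : e1 ≠ 1 := fun h => hu1 (Resist.plane_ext hV hexp hcm he hfe (by simpa using hSe u huS)
    (by simpa using mul_inv_eq_one.mp h))
  have he2 : f ∉ zpowers e1 := fun h => hfe (zpowers_le.mpr he1e h)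
  have he1f : e1 ∉ zpowers f := fun h => by
    obtain ⟨n, hn⟩ := Resist.exists_pow_eq (hexp f) h he11
    exact he2 (hn ▸ pow_mem (mem_zpowers e1) n)
  have hue1 : (u : MulAut V) e1 = e1 := by
    obtain ⟨i, hi⟩ := he1e
    rw [← hi, map_zpow, hSe u huS]
  have huf : (u : MulAut V) f = e1 * f := by rw [he1def, inv_mul_cancel_right]
  obtain ⟨l, hl⟩ := hpk T v hvT
  set d := (v : MulAut V) e1 * e1⁻¹ with hddef
  have hdf : d ∈ zpowers f := Resist.plane_transvection hV hexp hcm hf v hl (hTf v hvT) e1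
  have hd1 : d ≠ 1 := fun h => hv1 (Resist.plane_ext hV hexp hcm hf he1f (by simpa using hTf v hvT)
    (by simpa using mul_inv_eq_one.mp h))
  have hvd : (v : MulAut V) d = d := by
    obtain ⟨i, hi⟩ := hdf
    rw [← hi, map_zpow, hTf v hvT]
  obtain ⟨n, hn⟩ := Resist.exists_pow_eq (c := f⁻¹) (d := d) (hexp _) (zpowers_inv (g := f) ▸ hdf) hd1
  have hvn := (Resist.transvection_pow hV hexp hcm hvd
    (show (v : MulAut V) e1 = d * e1 by rw [hddef, inv_mul_cancel_right]) n).2
  have hvf : ((v : MulAut V) ^ n) f = f := by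
    have := hTf (v ^ n) (pow_mem hvT n)
    simpa using this
  rw [hn] at hvn
  set τ : MulAut V := (u : MulAut V) * (v : MulAut V) ^ n * (u : MulAut V) with hτ
  have hτX : τ ∈ X := mul_mem (mul_mem u.2 (pow_mem v.2 n)) u.2
  have h1 : τ e1 = f⁻¹ := by
    rw [hτ, MulAut.mul_apply, MulAut.mul_apply, hue1, hvn, map_mul, map_inv, huf, hue1, mul_inv_rev,
      inv_mul_cancel_right]
  have h2 : τ f = e1 := by
    rw [hτ, MulAut.mul_apply, MulAut.mul_apply, huf, map_mul, hvn, hvf, hcm f⁻¹ e1, inv_mul_cancel_right,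
      hue1]
  refine ⟨⟨τ ^ 2, pow_mem hτX 2, fun w => ?_⟩, ?_⟩
  · let ι : MulAut V :=
      { toFun := fun a => a⁻¹
        invFun := fun a => a⁻¹
        left_inv := inv_inv
        right_inv := inv_inv
        map_mul' := fun a b => by rw [mul_inv_rev, hcm] }
    have hι : τ ^ 2 = ι := Resist.plane_ext hV hexp hcm he11 he2
      (by rw [pow_two, MulAut.mul_apply, h1, map_inv, h2]; rfl)
      (by rw [pow_two, MulAut.mul_apply, h2, h1]; rfl)
    rw [hι]; rfl
  · intro Q hQn hQp
    haveI := hQn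
    refine (eq_bot_iff_forall _).mpr fun w hw => Subtype.ext ?_
    refine Resist.plane_ext hV hexp hcm he hfe ?_ ?_
    · simpa using hSe w (hQp.le_sylow_of_normal S hw)
    · simpa using hTf w (hQp.le_sylow_of_normal T hw)

end Cfsg.Agent.IsolatedRankTwo
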